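import Mathlib

/-!
Endomorphisms with a prime power equal to a non-power scalar are similar; monomial matrices.
-/

set_option autoImplicit false
set_option linter.unusedSectionVars false

namespace CfsgLib.PrimeClasses

open Polynomial

/-- A vector space with an endomorphism `x` with `x ^ r = z`, `z` not an `r`-th power, is a vector
space over `F[X]/(X ^ r - z)`. -/
theorem exists_kummer_intertwine {F V W : Type*} [Field F] [AddCommGroup V] [Module F V]
    [FiniteDimensional F V] [AddCommGroup W] [Module F W] [FiniteDimensional F W] {r : ℕ} (hr : r.Prime)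
    {z : F} (hz : ∀ w : F, w ^ r ≠ z) (hdim : Module.finrank F V = Module.finrank F W)
    {x : Module.End F V} {y : Module.End F W} (hx : x ^ r = z • 1) (hy : y ^ r = z • 1) :
    r ∣ Module.finrank F V ∧ ∃ e : V ≃ₗ[F] W, ∀ v, e (x v) = y (e v) := by
  have hirr := X_pow_sub_C_irreducible_of_prime hr hz
  have : Fact (Irreducible (X ^ r - C z)) := ⟨hirr⟩
  let p : F[X] := X ^ r - C z
  have hvan : ∀ a ∈ Ideal.span ({p} : Set F[X]), aeval x a = 0 := fun a ha => by
    obtain ⟨b, rfl⟩ := Ideal.mem_span_singleton.1 ha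
    rw [map_mul, map_sub, map_pow, aeval_X, aeval_C, hx, Algebra.algebraMap_eq_smul_one, sub_self, zero_mul]
  have hvanW : ∀ a ∈ Ideal.span ({p} : Set F[X]), aeval y a = 0 := fun a ha => by
    obtain ⟨b, rfl⟩ := Ideal.mem_span_singleton.1 ha
    rw [map_mul, map_sub, map_pow, aeval_X, aeval_C, hy, Algebra.algebraMap_eq_smul_one, sub_self, zero_mul]
  let φ : AdjoinRoot p →ₐ[F] Module.End F V := Ideal.Quotient.liftₐ _ (aeval x) hvan
  let ψ : AdjoinRoot p →ₐ[F] Module.End F W := Ideal.Quotient.liftₐ _ (aeval y) hvanW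
  let _ : Module (AdjoinRoot p) V := Module.compHom V φ.toRingHom
  let _ : Module (AdjoinRoot p) W := Module.compHom W ψ.toRingHom
  have hsV : ∀ (a : AdjoinRoot p) (v : V), a • v = φ a v := fun _ _ => rfl
  have hsW : ∀ (a : AdjoinRoot p) (v : W), a • v = ψ a v := fun _ _ => rfl
  have : IsScalarTower F (AdjoinRoot p) V :=
    ⟨fun c a v => by rw [hsV, hsV, map_smul, LinearMap.smul_apply]⟩
  have : IsScalarTower F (AdjoinRoot p) W :=
    ⟨fun c a v => by rw [hsW, hsW, map_smul, LinearMap.smul_apply]⟩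
  have : Module.Finite (AdjoinRoot p) V := Module.Finite.of_restrictScalars_finite F _ _
  have : Module.Finite (AdjoinRoot p) W := Module.Finite.of_restrictScalars_finite F _ _
  have hp0 : p ≠ 0 := hirr.ne_zero
  have hfr : Module.finrank F (AdjoinRoot p) = r := by
    rw [(AdjoinRoot.powerBasis hp0).finrank, AdjoinRoot.powerBasis_dim, natDegree_X_pow_sub_C]
  have hV := Module.finrank_mul_finrank F (AdjoinRoot p) V
  have hW := Module.finrank_mul_finrank F (AdjoinRoot p) W
  rw [hfr] at hV hW
  refine ⟨⟨_, hV.symm⟩, ?_⟩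
  let e : V ≃ₗ[AdjoinRoot p] W :=
    LinearEquiv.ofFinrankEq V W (Nat.eq_of_mul_eq_mul_left hr.pos (by rw [hV, hW, hdim]))
  refine ⟨e.restrictScalars F, fun v => ?_⟩
  have hxr : φ (AdjoinRoot.root p) = x := (Ideal.Quotient.lift_mk _ _ _).trans (aeval_X x)
  have hyr : ψ (AdjoinRoot.root p) = y := (Ideal.Quotient.lift_mk _ _ _).trans (aeval_X y)
  show e (x v) = y (e v)
  rw [← hxr, ← hyr, ← hsV, ← hsW, map_smul]

variable {F : Type*} [Field F] {ι : Type*} [Fintype ι] [DecidableEq ι]

/-- The monomial matrix sending the `j`-th unit vector to `d j` times the `σ j`-th one. -/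
def monomial' (σ : Equiv.Perm ι) (d : ι → F) : Matrix ι ι F :=
  Matrix.of fun i j => if i = σ j then d j else 0

theorem monomial'_mul (σ τ : Equiv.Perm ι) (d e : ι → F) :
    monomial' σ d * monomial' τ e = monomial' (σ * τ) fun j => d (τ j) * e j := by
  ext i j
  simp [monomial', Matrix.mul_apply]
  congr

theorem monomial'_one (d : ι → F) : monomial' 1 d = Matrix.diagonal d := by
  ext i j
  by_cases h : i = j <;> simp [monomial', h]

theorem monomial'_pow (σ : Equiv.Perm ι) (d : ι → F) (m : ℕ) :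
    monomial' σ d ^ m = monomial' (σ ^ m) fun j => ∏ l ∈ Finset.range m, d ((σ ^ l) j) := by
  induction m with
  | zero => simp [monomial'_one]
  | succ m ih =>
    rw [pow_succ', ih, monomial'_mul, ← pow_succ']
    congr 1
    funext j
    rw [Finset.prod_range_succ, mul_comm]

/-- A monomial matrix with invertible entries, as a unit. -/
def monomialGL (σ : Equiv.Perm ι) (d : ι → Fˣ) : GL ι F :=
  ⟨monomial' σ fun j => (d j : F), monomial' σ⁻¹ fun j => ((d (σ⁻¹ j))⁻¹ : Fˣ),
    by rw [monomial'_mul, mul_inv_cancel, monomial'_one]; simp,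
    by rw [monomial'_mul, inv_mul_cancel, monomial'_one]; simp⟩

/-- With `r ∣ |ι|`, some monomial matrix with entries `1` or `z` has `r`-th power `z`. -/
theorem exists_monomial_pow_eq {r k : ℕ} [NeZero r] (h : Fintype.card ι = r * k) (z : Fˣ) :
    ∃ (σ : Equiv.Perm ι) (d : ι → Fˣ), (∀ j, d j = 1 ∨ d j = z) ∧
      ((monomialGL σ d : GL ι F) : Matrix ι ι F) ^ r = (z : F) • 1 := by
  let e : ι ≃ ZMod r × Fin k := Fintype.equivOfCardEq (by simp [h])
  let σ : Equiv.Perm ι := e.trans (((Equiv.addRight 1).prodCongr (Equiv.refl _)).trans e.symm)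
  let d : ι → Fˣ := fun j => if (e j).1 = 0 then z else 1
  refine ⟨σ, d, fun j => by simp only [d]; split_ifs <;> simp, ?_⟩
  have hσ : ∀ (l : ℕ) (j : ι), e ((σ ^ l) j) = ((e j).1 + l, (e j).2) := by
    intro l
    induction l with
    | zero => intro j; simp
    | succ l ih =>
      intro j
      rw [pow_succ', Equiv.Perm.mul_apply]
      simp [σ, ih, add_assoc]
  show monomial' σ (fun j => (d j : F)) ^ r = _
  rw [monomial'_pow, show σ ^ r = 1 from Equiv.ext fun j => e.injective (by simp [hσ]), monomial'_one,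
    Matrix.smul_one_eq_diagonal]
  congr 1
  funext j
  rw [← Units.coeHom_apply z, ← show ∏ l ∈ Finset.range r, (Units.coeHom F) (d ((σ ^ l) j)) =
    ∏ l ∈ Finset.range r, (d ((σ ^ l) j) : F) from rfl, ← map_prod]
  congr 1
  rw [Finset.prod_eq_single_of_mem (-(e j).1).val (Finset.mem_range.2 (ZMod.val_lt _))]
  · simp only [d, hσ, ZMod.natCast_zmod_val, add_neg_cancel, if_true]
  · intro l hl hne
    simp only [d, hσ]
    refine if_neg fun h0 => hne ?_
    rw [← eq_neg_of_add_eq_zero_right h0, ZMod.val_natCast, Nat.mod_eq_of_lt (Finset.mem_range.1 hl)]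

end CfsgLib.PrimeClasses
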