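import Cfsg.Agent.Lib.PrimeClasses.Orbits

/-!
Multiplicities of `r`-th roots of unity lying in the ground field.
-/

set_option autoImplicit false
set_option linter.unusedSectionVars false

namespace CfsgLib.PrimeClasses

open Matrix Finset

variable {F : Type*} [Field F] {r : ℕ} [hr : Fact r.Prime] {ζ : F} (hζ : IsPrimitiveRoot ζ r)
variable {ι : Type*} [Fintype ι] [DecidableEq ι]

include hζ in
theorem natCast_ne_zero_of_root : (r : F) ≠ 0 :=
  (hζ.neZero' (R := F)).ne

theorem eigProj_smul (M : Matrix ι ι F) (k u : ZMod r) :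
    eigProj hζ (rootChar hζ k • M) (u + k) = eigProj hζ M u := by
  unfold eigProj
  congr 1
  refine Finset.sum_congr rfl fun j _ => ?_
  rw [smul_pow, smul_smul, rootChar_pow, ZMod.natCast_zmod_val, ← AddChar.map_add_eq_mul]
  congr 2
  ring

/-- Scalars shift the multiplicities. -/
theorem mult_smul (M : Matrix ι ι F) (k u : ZMod r) :
    mult hζ (rootChar hζ k • M) (u + k) = mult hζ M u := by
  rw [mult, eigProj_smul, ← mult]

theorem rootChar_pow_self (k : ZMod r) : rootChar hζ k ^ r = 1 := by
  rw [rootChar_pow, CharP.cast_eq_zero, zero_mul, AddChar.map_zero_eq_one]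

theorem eigProj_diagonal (f : ι → ZMod r) (u : ZMod r) :
    eigProj hζ (Matrix.diagonal fun i => rootChar hζ (f i)) u =
      Matrix.diagonal fun i => if f i = u then 1 else 0 := by
  have hr0 := natCast_ne_zero_of_root hζ
  let N : ZMod r → Matrix ι ι F := fun w => Matrix.diagonal fun i => if f i = w then 1 else 0
  have hN : ∀ w, Matrix.diagonal (fun i => rootChar hζ (f i)) * N w = rootChar hζ w • N w := fun w => by
    rw [Matrix.diagonal_mul_diagonal, ← Matrix.diagonal_smul]
    congr 1
    funext i
    by_cases h : f i = w <;> simp [h]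
  have hsum : ∑ w, N w = 1 := by
    ext i j
    by_cases h : i = j
    · subst h; simp [N, Matrix.sum_apply]
    · simp [N, Matrix.sum_apply, h]
  calc eigProj hζ (Matrix.diagonal fun i => rootChar hζ (f i)) u
      = ∑ w, eigProj hζ (Matrix.diagonal fun i => rootChar hζ (f i)) u * N w := by
        rw [← Finset.mul_sum, hsum, mul_one]
    _ = N u := by
        simp only [eigProj_mul_of_eigen hζ hr0 (hN _), Finset.sum_ite_eq', Finset.mem_univ, if_true]

theorem mult_diagonal (f : ι → ZMod r) (u : ZMod r) :
    mult hζ (Matrix.diagonal fun i => rootChar hζ (f i)) u = Fintype.card {i // f i = u} := by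
  classical
  rw [mult, eigProj_diagonal, Matrix.rank_diagonal]
  exact Fintype.card_congr (Equiv.subtypeEquivRight fun i => by by_cases h : f i = u <;> simp [h])

/-- An element whose multiplicity is concentrated is scalar. -/
theorem eq_scalar_of_mult {M : Matrix ι ι F} (hM : M ^ r = 1) {u : ZMod r}
    (h : ∀ w, w ≠ u → mult hζ M w = 0) : M = rootChar hζ u • 1 := by
  have h1 : rootChar hζ (-u) • M = 1 := by
    refine eq_one_of_mult hζ (natCast_ne_zero_of_root hζ)
      (by rw [smul_pow, hM, rootChar_pow_self, one_smul]) fun w hw => ?_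
    have e := mult_smul hζ M (-u) (w + u)
    rw [add_neg_cancel_right] at e
    rw [e]
    exact h _ fun h' => hw (add_eq_right.1 h')
  calc M = rootChar hζ u • (rootChar hζ (-u) • M) := by
        rw [smul_smul, ← AddChar.map_add_eq_mul, add_neg_cancel, AddChar.map_zero_eq_one, one_smul]
    _ = _ := by rw [h1]

theorem exists_rootChar_eq {c : F} (hc : c ^ r = 1) : ∃ k : ZMod r, rootChar hζ k = c := by
  obtain ⟨i, hi, rfl⟩ := hζ.eq_pow_of_pow_eq_one hc
  exact ⟨i, by rw [rootChar_apply, ZMod.val_natCast, Nat.mod_eq_of_lt hi]⟩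

variable [Fintype F]

/-- Equal multiplicities give similarity. -/
theorem exists_conj_of_mult {X Y : Matrix ι ι F} (hX : X ^ r = 1) (hY : Y ^ r = 1)
    (h : ∀ u, mult hζ X u = mult hζ Y u) :
    ∃ g : GL ι F, (g : Matrix ι ι F) * X = Y * (g : Matrix ι ι F) := by
  have hid : ∀ Z : Matrix ι ι F, up (L := F) Z = Z := fun Z => by ext a b; rfl
  refine exists_conj_of_orbitMult hζ ?_ (natCast_ne_zero_of_root hζ) hX hY (funext fun ω => ?_)
  · exact Subsingleton.elim _ _
  · rw [orbitMult, orbitMult, hid, hid, h]

end CfsgLib.PrimeClasses
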