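import Cfsg.Agent.Lib.PrimeClasses.Duality
import Cfsg.Agent.Lib.IsomConj.Unitary
import Cfsg.Agent.Lib.ClassicalGroups.HermGroup

/-!
Multiplicities of elements of prime order of unitary groups: symmetry and realisation.
-/

set_option autoImplicit false
set_option linter.unusedSectionVars false

namespace CfsgLib.PrimeClasses

open Matrix CfsgLib.IsomConj

variable {K : Type*} [Field K] [Fintype K] {q : ℕ} {r : ℕ} [hr : Fact r.Prime]

theorem q_pow_eq {K : Type*} [Field K] [Fintype K] {q : ℕ} (hK : Fintype.card K = q ^ 2) :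
    ∃ p k : ℕ, p.Prime ∧ CharP K p ∧ q = p ^ k := by
  obtain ⟨p, hp⟩ := CharP.exists K
  obtain ⟨f, hp', hKp⟩ := FiniteField.card K p
  obtain ⟨k, -, hk⟩ := (Nat.dvd_prime_pow hp').1
    (show q ∣ p ^ (f : ℕ) from hKp ▸ hK ▸ dvd_pow_self q two_ne_zero)
  exact ⟨p, k, hp', hp, hk⟩

/-- The residue of `q`, invertible. -/
noncomputable def sqrtUnit (hK : Fintype.card K = q ^ 2) (hrK : (r : K) ≠ 0) : (ZMod r)ˣ :=
  Units.mk0 (q : ZMod r) fun h => (qUnit hrK).ne_zero (by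
    rw [coe_qUnit, hK, Nat.cast_pow, h, zero_pow two_ne_zero])

theorem coe_sqrtUnit (hK : Fintype.card K = q ^ 2) (hrK : (r : K) ≠ 0) :
    ((sqrtUnit hK hrK : (ZMod r)ˣ) : ZMod r) = q := rfl

theorem sqrtUnit_sq (hK : Fintype.card K = q ^ 2) (hrK : (r : K) ≠ 0) :
    sqrtUnit hK hrK ^ 2 = qUnit hrK :=
  Units.ext (by rw [Units.val_pow_eq_pow_val, coe_sqrtUnit, coe_qUnit, hK, Nat.cast_pow])

/-- The duality `u ↦ -q u` on orbits. -/
noncomputable abbrev gOrb (hK : Fintype.card K = q ^ 2) (hrK : (r : K) ≠ 0) : Orbits hrK :=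
  orb hrK (-1) * orb hrK (sqrtUnit hK hrK)

theorem gOrb_sq (hK : Fintype.card K = q ^ 2) (hrK : (r : K) ≠ 0) :
    gOrb hK hrK * gOrb hK hrK = 1 := by
  rw [show gOrb hK hrK * gOrb hK hrK = (orb hrK (-1) * orb hrK (-1)) *
      (orb hrK (sqrtUnit hK hrK) * orb hrK (sqrtUnit hK hrK)) from @mul_mul_mul_comm (Orbits hrK) _ _ _ _ _,
    orb_neg_one_sq, one_mul, ← QuotientGroup.mk_mul, ← pow_two, sqrtUnit_sq,
    QuotientGroup.eq_one_iff]
  exact Subgroup.mem_zpowers _

theorem orbit_size_sq (hK : Fintype.card K = q ^ 2) :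
    orderOf (Fintype.card K : ZMod r) = orderOf ((q : ZMod r) ^ 2) := by
  rw [hK, Nat.cast_pow]

theorem orbit_size_eq_b (hK : Fintype.card K = q ^ 2) (hrK : (r : K) ≠ 0) {i b : ℕ}
    (hi : i = orderOf (q : ZMod r)) (hb : b = if Odd i then i else i / 2) :
    orderOf (Fintype.card K : ZMod r) = b := by
  rw [orbit_size_sq hK, ← coe_sqrtUnit hK hrK, ← Units.val_pow_eq_pow_val, orderOf_units, orderOf_pow]
  rw [← coe_sqrtUnit hK hrK, orderOf_units] at hi
  rw [← hi, hb]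
  rcases Nat.even_or_odd i with h | h
  · rw [if_neg (Nat.not_odd_iff_even.2 h), Nat.gcd_eq_right (even_iff_two_dvd.1 h)]
  · rw [if_pos h, show Nat.gcd i 2 = 1 from (Nat.coprime_two_right.2 h), Nat.div_one]

theorem gOrb_eq_one_iff (hK : Fintype.card K = q ^ 2) (hrK : (r : K) ≠ 0) (hr2 : r ≠ 2) {i : ℕ}
    (hi : i = orderOf (q : ZMod r)) : gOrb hK hrK = 1 ↔ i % 4 = 2 := by
  rw [← coe_sqrtUnit hK hrK, orderOf_units] at hi
  rw [gOrb, ← QuotientGroup.mk_mul, QuotientGroup.eq_one_iff, ← sqrtUnit_sq hK hrK]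
  set s := sqrtUnit hK hrK
  have hipos : 0 < i := hi ▸ orderOf_pos s
  constructor
  · intro h
    obtain ⟨k, hk⟩ := mem_powers_iff_mem_zpowers.2 h
    have hk' : (s ^ 2) ^ k = -1 * s := hk
    have hns : s ^ (2 * k + (i - 1)) = -1 := by
      rw [pow_add, pow_mul, hk', mul_assoc, ← pow_succ', Nat.sub_add_cancel (by omega), hi,
        pow_orderOf_eq_one, mul_one]
    have hsq : s ^ (2 * (2 * k + (i - 1))) = 1 := by rw [mul_comm, pow_mul, hns, neg_one_sq]
    have hd := orderOf_dvd_of_pow_eq_one hsq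
    have hnd : ¬ i ∣ 2 * k + (i - 1) := fun hdd => neg_one_unit_ne_one hr2 (by
      rw [← hns]; exact orderOf_dvd_iff_pow_eq_one.1 (hi ▸ hdd))
    rw [← hi] at hd
    obtain ⟨m, hm⟩ := hd
    rcases Nat.even_or_odd i with ⟨j, hj⟩ | ⟨j, hj⟩
    · rcases Nat.even_or_odd j with ⟨l, hl⟩ | ⟨l, hl⟩
      · exfalso
        have h2 : 2 * k + (i - 1) = j * m := by subst hj; nlinarith
        have : Even (j * m) := Even.mul_right (⟨l, hl⟩ : Even j) m
        rw [← h2] at this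
        obtain ⟨w, hw⟩ := this
        omega
      · omega
    · exfalso
      have hev : Even m := by
        have : Even (i * m) := ⟨_, by rw [← hm, two_mul]⟩
        exact (Nat.even_mul.1 this).resolve_left (Nat.not_even_iff_odd.2 ⟨j, hj⟩)
      obtain ⟨w, rfl⟩ := hev
      exact hnd ⟨w, by nlinarith⟩
  · intro h4
    have hneg := pow_half_eq_neg_one unit_sq_eq_one hi.symm (by exact ⟨i / 2, by omega⟩) hipos
    refine mem_powers_iff_mem_zpowers.1 ⟨(i / 2 + 1) / 2, ?_⟩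
    show (s ^ 2) ^ _ = _
    rw [← pow_mul, show 2 * ((i / 2 + 1) / 2) = i / 2 + 1 by omega, pow_succ, hneg]

variable {L : Type*} [Field L] [Algebra K L] {ζ : L} (hζ : IsPrimitiveRoot ζ r)
variable {n : ℕ}

theorem orbitMult_map_conj (hK : Fintype.card K = q ^ 2) (hrK : (r : K) ≠ 0)
    (X : Matrix (Fin n) (Fin n) K) (ω : Orbits hrK) :
    orbitMult hζ hrK (X.map (· ^ q)) (orb hrK (sqrtUnit hK hrK) * ω) = orbitMult hζ hrK X ω := by
  obtain ⟨p, k, hp, hcp, rfl⟩ := q_pow_eq hK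
  have := Fact.mk hp
  have : CharP L p := charP_of_injective_algebraMap (algebraMap K L).injective p
  have hup : up (L := L) (X.map (· ^ (p ^ k))) = (up X).map (iterateFrobenius L p k) := by
    ext a b
    simp [iterateFrobenius_def]
  have h1 : (orb hrK (sqrtUnit hK hrK) * ω : Orbits hrK) =
      QuotientGroup.mk (sqrtUnit hK hrK * ω.out) := by
    rw [QuotientGroup.mk_mul, QuotientGroup.out_eq']
  rw [h1, ← mult_eq_orbitMult, orbitMult, Units.val_mul, coe_sqrtUnit, mult, hup,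
    eigProj_map hζ hζ (iterateFrobenius L p k) (p ^ k) (iterateFrobenius_def p k ζ),
    rank_map_ringHom]
  rfl

/-- Unitary elements have symmetric multiplicities. -/
theorem GU_isSym (hK : Fintype.card K = q ^ 2) (hrK : (r : K) ≠ 0) {X : Matrix (Fin n) (Fin n) K}
    (hX : X ^ r = 1) (hu : ctr q X * X = 1) : IsSym (gOrb hK hrK) (orbitMult hζ hrK X) := by
  intro ω
  have h1 := orbitMult_inv_transpose hζ hrK hX hu ω
  have h2 : (ctr q X)ᵀ = X.map (· ^ q) := transpose_transpose _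
  rw [h2, ← orbitMult_map_conj hζ hK hrK X ω] at h1
  have h3 : ∀ η : Orbits hrK, orbitMult hζ hrK (X.map (· ^ q)) (orb hrK (sqrtUnit hK hrK) * η) =
      orbitMult hζ hrK X η := orbitMult_map_conj hζ hK hrK X
  rw [h3] at h1
  rw [← h1]
  have h4 : gOrb hK hrK * ω = orb hrK (sqrtUnit hK hrK) * (orb hrK (-1) * ω) := by
    exact (mul_assoc _ _ _).trans (@mul_left_comm (Orbits hrK) _ _ _ _)
  rw [h4, ← orbitMult_map_conj hζ hK hrK X (orb hrK (sqrtUnit hK hrK) * (orb hrK (-1) * ω))]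
  congr 1
  rw [← mul_assoc, ← mul_assoc, ← QuotientGroup.mk_mul, ← pow_two, sqrtUnit_sq,
    (QuotientGroup.eq_one_iff _).2 (Subgroup.mem_zpowers _), one_mul]

/-- An isometry of a Hermitian Gram matrix is similar to a unitary matrix. -/
theorem exists_GU_of_herm (hK : Fintype.card K = q ^ 2) {M X : Matrix (Fin n) (Fin n) K}
    (hM : IsUnit M) (hMh : ctr q M = M) (hXM : ctr q X * M * X = M) :
    ∃ P : GL (Fin n) K,
      ctr q ((P : Matrix (Fin n) (Fin n) K) * X * (↑P⁻¹ : Matrix (Fin n) (Fin n) K)) *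
        ((P : Matrix (Fin n) (Fin n) K) * X * (↑P⁻¹ : Matrix (Fin n) (Fin n) K)) = 1 := by
  obtain ⟨τ, hτ, hτne, hττ⟩ := CfsgLib.UnitaryEmbed.exists_conj hK
  have hmap : ∀ Z : Matrix (Fin n) (Fin n) K, ctr q Z = (Z.map τ)ᵀ := fun Z => by
    unfold ctr; congr 2; exact funext fun c => (hτ c).symm
  have hmul : ∀ a b : Matrix (Fin n) (Fin n) K, ctr q (a * b) = ctr q b * ctr q a := fun a b => by
    rw [hmap, hmap, hmap, Matrix.map_mul, transpose_mul]
  have h1 : ctr q (1 : Matrix (Fin n) (Fin n) K) = 1 := by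
    rw [hmap, Matrix.map_one _ (map_zero τ) (map_one τ), transpose_one]
  obtain ⟨c, hc⟩ : ∃ c, τ c ≠ c := by
    by_contra hall
    push Not at hall
    exact hτne (RingHom.ext hall)
  have hsc : ∀ d : K, ctr q (Matrix.scalar (Fin n) d) = Matrix.scalar (Fin n) (τ d) := fun d => by
    rw [hmap]
    ext i j; by_cases hij : i = j <;> simp [Matrix.scalar_apply, hij, Ne.symm]
  have hscc : ∀ (d : K) (Z : Matrix (Fin n) (Fin n) K),
      Matrix.scalar (Fin n) d * Z = Z * Matrix.scalar (Fin n) d :=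
    fun d Z => Matrix.scalar_commute d (fun r' => mul_comm d r') Z
  obtain ⟨A, -, hA⟩ := exists_star_mul_self (A := Matrix (Fin n) (Fin n) K) (ctr q)
    (fun a b => by rw [hmap, hmap, hmap, Matrix.map_add _ (map_add τ), transpose_add])
    hmul (fun a => by rw [hmap, hmap]; ext i j; exact hττ _)
    {M, Matrix.scalar (Fin n) c, Matrix.scalar (Fin n) (τ c)}
    (by rintro a (rfl | rfl | rfl) b (rfl | rfl | rfl) <;>
      first | rfl | exact hscc _ _ | exact (hscc _ _).symm)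
    (by
      rintro a (rfl | rfl | rfl)
      · rw [hMh]; exact Subring.subset_closure (Or.inl rfl)
      · rw [hsc]; exact Subring.subset_closure (Or.inr (Or.inr rfl))
      · rw [hsc, hττ]; exact Subring.subset_closure (Or.inr (Or.inl rfl)))
    (Matrix.scalar (Fin n) c) (Subring.subset_closure (Or.inr (Or.inl rfl)))
    (by rw [hsc, ← map_sub]; exact (isUnit_iff_ne_zero.2 (sub_ne_zero.2 (Ne.symm hc))).map _)
    M (Subring.subset_closure (Or.inl rfl)) hM hMh
  obtain ⟨P, rfl⟩ : IsUnit A := by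
    rw [← hA, Matrix.isUnit_iff_isUnit_det, Matrix.det_mul, IsUnit.mul_iff] at hM
    exact (Matrix.isUnit_iff_isUnit_det _).2 hM.2
  refine ⟨P, ?_⟩
  rw [hmul, hmul]
  calc ctr q (↑P⁻¹ : Matrix (Fin n) (Fin n) K) * (ctr q X * ctr q (P : Matrix (Fin n) (Fin n) K)) *
        ((P : Matrix (Fin n) (Fin n) K) * X * (↑P⁻¹ : Matrix (Fin n) (Fin n) K))
      = ctr q (↑P⁻¹ : Matrix (Fin n) (Fin n) K) *
          (ctr q X * (ctr q (P : Matrix (Fin n) (Fin n) K) * P) * X) *
          (↑P⁻¹ : Matrix (Fin n) (Fin n) K) := by simp only [Matrix.mul_assoc]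
    _ = ctr q (↑P⁻¹ : Matrix (Fin n) (Fin n) K) * (ctr q (P : Matrix (Fin n) (Fin n) K) * P) *
          (↑P⁻¹ : Matrix (Fin n) (Fin n) K) := by rw [hA, hXM]
    _ = 1 := by
      rw [← Matrix.mul_assoc (ctr q (↑P⁻¹ : Matrix (Fin n) (Fin n) K)), ← hmul, Units.mul_inv, h1,
        one_mul, Units.mul_inv]

/-- The tuples realised by elements of `GU_n`. -/
def GURealised (q : ℕ) (hrK : (r : K) ≠ 0) (n : ℕ) (c : Orbits hrK → ℕ) : Prop :=
  ∃ X : Matrix (Fin n) (Fin n) K, X ^ r = 1 ∧ ctr q X * X = 1 ∧ orbitMult hζ hrK X = c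

theorem GU_realised_zero (hK : Fintype.card K = q ^ 2) (hrK : (r : K) ≠ 0) (n : ℕ) :
    GURealised hζ q hrK n 0 :=
  ⟨1, one_pow r, by simpa using (mem_GU_iff_ctr hK).1 (Cfsg.GU n K q).one_mem, orbitMult_one hζ hrK⟩

theorem ctr_fromBlocks {a b : ℕ} (hq : q ≠ 0) (X : Matrix (Fin a) (Fin a) K) (Y : Matrix (Fin b) (Fin b) K) :
    ctr q (Matrix.reindex finSumFinEquiv finSumFinEquiv (Matrix.fromBlocks X 0 0 Y)) =
      Matrix.reindex finSumFinEquiv finSumFinEquiv (Matrix.fromBlocks (ctr q X) 0 0 (ctr q Y)) := by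
  ext i j
  obtain ⟨i, rfl⟩ := finSumFinEquiv.surjective i
  obtain ⟨j, rfl⟩ := finSumFinEquiv.surjective j
  simp only [ctr, transpose_apply, Matrix.map_apply, Matrix.reindex_apply, Matrix.submatrix_apply,
    Equiv.symm_apply_apply]
  rcases i with i | i <;> rcases j with j | j <;> simp [hq]

theorem reindex_mul {a b : ℕ} (X Y : Matrix (Fin a ⊕ Fin b) (Fin a ⊕ Fin b) K) :
    Matrix.reindex finSumFinEquiv finSumFinEquiv X * Matrix.reindex finSumFinEquiv finSumFinEquiv Y =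
      Matrix.reindex finSumFinEquiv finSumFinEquiv (X * Y) :=
  (map_mul (Matrix.reindexAlgEquiv K K finSumFinEquiv) X Y).symm

theorem reindex_one {a b : ℕ} :
    Matrix.reindex finSumFinEquiv finSumFinEquiv (1 : Matrix (Fin a ⊕ Fin b) (Fin a ⊕ Fin b) K) = 1 :=
  map_one (Matrix.reindexAlgEquiv K K finSumFinEquiv)

theorem GU_realised_add (hK : Fintype.card K = q ^ 2) (hrK : (r : K) ≠ 0) {a b : ℕ}
    {c d : Orbits hrK → ℕ} (h : GURealised hζ q hrK a c) (h' : GURealised hζ q hrK b d) :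
    GURealised hζ q hrK (a + b) (c + d) := by
  obtain ⟨X, hX, hXu, rfl⟩ := h
  obtain ⟨Y, hY, hYu, rfl⟩ := h'
  have hq : q ≠ 0 := (Nat.zero_lt_of_lt (CfsgLib.UnitaryEmbed.q_gt_one hK)).ne'
  refine ⟨Matrix.reindex finSumFinEquiv finSumFinEquiv (Matrix.fromBlocks X 0 0 Y), ?_, ?_, ?_⟩
  · rw [reindex_pow, fromBlocks_pow, hX, hY, Matrix.fromBlocks_one, reindex_one]
  · rw [ctr_fromBlocks hq, reindex_mul, Matrix.fromBlocks_multiply]
    simp only [hXu, hYu, Matrix.mul_zero, Matrix.zero_mul, add_zero, zero_add, Matrix.fromBlocks_one,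
      reindex_one]
  · rw [orbitMult_reindex, orbitMult_fromBlocks]

/-- A pair of dual orbits in dimension twice the orbit size. -/
theorem GU_realised_pair (hK : Fintype.card K = q ^ 2) (hrK : (r : K) ≠ 0)
    [DecidableEq (Orbits hrK)] (ω : Orbits hrK) :
    GURealised hζ q hrK (2 * orderOf (Fintype.card K : ZMod r))
      (Pi.single ω 1 + Pi.single (gOrb hK hrK * ω) 1) := by
  classical
  have hq : q ≠ 0 := (Nat.zero_lt_of_lt (CfsgLib.UnitaryEmbed.q_gt_one hK)).ne'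
  have hcomp : ∀ a : K, (a ^ q) ^ q = a := CfsgLib.UnitaryEmbed.pow_sq_eq hK
  obtain ⟨τ, hτ, hτne, hττ⟩ := CfsgLib.UnitaryEmbed.exists_conj hK
  set i := orderOf (Fintype.card K : ZMod r)
  rw [two_mul]
  obtain ⟨X, hX, hXc⟩ := exists_GL_realise hζ hrK (Pi.single ω 1) i (by
    rw [Finset.sum_pi_single', if_pos (Finset.mem_univ ω), mul_one])
  let Xi : Matrix (Fin i) (Fin i) K := X ^ (r - 1)
  have hXi : Xi * X = 1 := by
    show X ^ (r - 1) * X = 1
    rw [← pow_succ, Nat.sub_add_cancel hr.out.pos, hX]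
  have hXi' : X * Xi = 1 := mul_eq_one_comm.1 hXi
  have hmap : ∀ Z : Matrix (Fin i) (Fin i) K, ctr q Z = (Z.map τ)ᵀ := fun Z => by
    unfold ctr; congr 2; exact funext fun c => (hτ c).symm
  have hmulc : ∀ a b : Matrix (Fin i) (Fin i) K, ctr q (a * b) = ctr q b * ctr q a := fun a b => by
    rw [hmap, hmap, hmap, Matrix.map_mul, transpose_mul]
  have hc1 : ctr q (1 : Matrix (Fin i) (Fin i) K) = 1 := by
    rw [hmap, Matrix.map_one _ (map_zero τ) (map_one τ), transpose_one]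
  have hcc : ∀ Z : Matrix (Fin i) (Fin i) K, ctr q (ctr q Z) = Z := fun Z => by
    ext a b; exact hcomp _
  let Z : Matrix (Fin i ⊕ Fin i) (Fin i ⊕ Fin i) K := Matrix.fromBlocks X 0 0 (ctr q Xi)
  let J : Matrix (Fin i ⊕ Fin i) (Fin i ⊕ Fin i) K := Matrix.fromBlocks 0 1 1 0
  let Z' := Matrix.reindex finSumFinEquiv finSumFinEquiv Z
  let J' := Matrix.reindex finSumFinEquiv finSumFinEquiv J
  have hJJ : J' * J' = 1 := by
    show Matrix.reindex _ _ J * Matrix.reindex _ _ J = 1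
    rw [reindex_mul, ← reindex_one]
    congr 1
    simp [J, Matrix.fromBlocks_multiply, Matrix.fromBlocks_one]
  have hZr : Z' ^ r = 1 := by
    have hpow : ∀ k : ℕ, (ctr q Xi) ^ k = ctr q (Xi ^ k) := fun k => by
      induction k with
      | zero => rw [pow_zero, pow_zero, hc1]
      | succ k ih => rw [pow_succ, ih, ← hmulc, ← pow_succ']
    show (Matrix.reindex _ _ Z) ^ r = 1
    rw [reindex_pow, fromBlocks_pow, hX, hpow, ← pow_mul, mul_comm, pow_mul, hX, one_pow, hc1,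
      Matrix.fromBlocks_one, reindex_one]
  have hctrBlocks : ∀ A B C D : Matrix (Fin i) (Fin i) K,
      ctr q (Matrix.reindex finSumFinEquiv finSumFinEquiv (Matrix.fromBlocks A B C D)) =
        Matrix.reindex finSumFinEquiv finSumFinEquiv
          (Matrix.fromBlocks (ctr q A) (ctr q C) (ctr q B) (ctr q D)) := fun A B C D => by
    ext x y
    obtain ⟨x, rfl⟩ := finSumFinEquiv.surjective x
    obtain ⟨y, rfl⟩ := finSumFinEquiv.surjective y
    simp only [ctr, transpose_apply, Matrix.map_apply, Matrix.reindex_apply, Matrix.submatrix_apply,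
      Equiv.symm_apply_apply]
    rcases x with x | x <;> rcases y with y | y <;> simp
  have hc0 : ctr q (0 : Matrix (Fin i) (Fin i) K) = 0 := by
    ext a b; simp [ctr, hq]
  have hJh : ctr q J' = J' := by
    show ctr q (Matrix.reindex _ _ (Matrix.fromBlocks 0 1 1 0)) = _
    rw [hctrBlocks, hc0, hc1]
  have hinv : ctr q Z' * J' * Z' = J' := by
    show ctr q (Matrix.reindex _ _ (Matrix.fromBlocks X 0 0 (ctr q Xi))) * Matrix.reindex _ _ J *
      Matrix.reindex _ _ (Matrix.fromBlocks X 0 0 (ctr q Xi)) = _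
    rw [hctrBlocks, hc0, hcc, reindex_mul, reindex_mul]
    show Matrix.reindex _ _ _ = Matrix.reindex _ _ (Matrix.fromBlocks 0 1 1 0)
    congr 1
    simp [J, Matrix.fromBlocks_multiply, ← hmulc, hXi, hc1]
  obtain ⟨P, hP⟩ := exists_GU_of_herm hK (IsUnit.of_mul_eq_one _ hJJ) hJh hinv
  refine ⟨_, ?_, hP, ?_⟩
  · rw [Units.conj_pow, hZr, mul_one, Units.mul_inv]
  rw [orbitMult_conj]
  show orbitMult hζ hrK (Matrix.reindex _ _ Z) = _
  rw [orbitMult_reindex, orbitMult_fromBlocks, hXc]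
  congr 1
  funext η
  have h1 := orbitMult_inv_transpose hζ hrK hX hXi (orb hrK (-1) * ((orb hrK (sqrtUnit hK hrK))⁻¹ * η))
  rw [← mul_assoc (orb hrK (-1)), orb_neg_one_sq, one_mul] at h1
  have h2 := orbitMult_map_conj hζ hK hrK Xiᵀ ((orb hrK (sqrtUnit hK hrK))⁻¹ * η)
  rw [mul_inv_cancel_left, h1, hXc] at h2
  have h3 : Xiᵀ.map (· ^ q) = ctr q Xi := Matrix.transpose_map ..
  rw [← h3, h2]
  have hg := gOrb_sq hK hrK
  have key : orb hrK (-1) * ((orb hrK (sqrtUnit hK hrK))⁻¹ * η) = gOrb hK hrK * η := by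
    have hs : (orb hrK (sqrtUnit hK hrK))⁻¹ = orb hrK (sqrtUnit hK hrK) := by
      rw [inv_eq_iff_mul_eq_one, ← QuotientGroup.mk_mul, ← pow_two, sqrtUnit_sq,
        QuotientGroup.eq_one_iff]
      exact Subgroup.mem_zpowers _
    rw [hs, gOrb, mul_assoc]
  rw [key]
  by_cases h : η = gOrb hK hrK * ω
  · rw [h, ← mul_assoc, hg, one_mul, Pi.single_eq_same, Pi.single_eq_same]
  · rw [Pi.single_eq_of_ne h, Pi.single_eq_of_ne (fun h' => h (by rw [← h', ← mul_assoc, hg, one_mul]))]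

/-- A self-dual orbit in dimension equal to the orbit size. -/
theorem GU_realised_single (hK : Fintype.card K = q ^ 2) (hrK : (r : K) ≠ 0)
    [DecidableEq (Orbits hrK)] {b : ℕ} (hb : orderOf (Fintype.card K : ZMod r) = b) (hodd : Odd b)
    (hdvd : r ∣ q ^ b + 1) (ω : Orbits hrK) : GURealised hζ q hrK b (Pi.single ω 1) := by
  have hbpos : 0 < b := hb ▸ orbit_size_pos hrK
  have hdiv : r ∣ Nat.card (Cfsg.GU b K q) := by
    rw [CfsgLib.ClassicalGroups.card_GU hK]
    refine Dvd.dvd.mul_left (dvd_trans ?_ (Finset.dvd_prod_of_mem _ (Finset.mem_range.2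
      (show b - 1 < b by omega)))) _
    rw [if_pos (by obtain ⟨j, hj⟩ := hodd; exact ⟨j, by omega⟩), Nat.sub_add_cancel hbpos]
    exact hdvd
  obtain ⟨g, hg⟩ := exists_prime_orderOf_dvd_card' r hdiv
  have hgr : g ^ r = 1 := orderOf_dvd_iff_pow_eq_one.1 (dvd_of_eq hg)
  let X : Matrix (Fin b) (Fin b) K := ((g : GL (Fin b) K) : Matrix (Fin b) (Fin b) K)
  have hX : X ^ r = 1 := by
    show ((g : GL (Fin b) K) : Matrix (Fin b) (Fin b) K) ^ r = 1
    rw [← Units.val_pow_eq_pow_val, ← SubgroupClass.coe_pow, hgr]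
    rfl
  have hX1 : X ≠ 1 := fun h => by
    have : g = 1 := Subtype.ext (Units.ext h)
    rw [this, orderOf_one] at hg
    exact hr.out.one_lt.ne hg
  obtain ⟨s, hs⟩ := exists_pow_eq_single hζ hX hX1 (by rw [Fintype.card_fin, hb]) ω
  refine ⟨X ^ s, by rw [← pow_mul, mul_comm, pow_mul, hX, one_pow], ?_, hs⟩
  have := (mem_GU_iff_ctr hK).1 (g ^ s).2
  rw [SubgroupClass.coe_pow, Units.val_pow_eq_pow_val] at this
  exact this

end CfsgLib.PrimeClasses
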