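import Mathlib

/-!
Counting tuples of multiplicities and classes described by an invariant.
-/

set_option autoImplicit false

namespace CfsgLib.PrimeClasses

/-- Tuples indexed by `α` with weighted sum at most `N`. -/
theorem card_sum_le (α : Type*) [Fintype α] (N : ℕ) :
    Nat.card {c : α → ℕ // ∑ x, c x ≤ N} = Nat.choose (N + Fintype.card α) (Fintype.card α) := by
  classical
  let e : {c : α → ℕ // ∑ x, c x ≤ N} ≃ {c : Option α → ℕ // ∑ x, c x = N} :=
    { toFun := fun c => ⟨fun o => o.elim (N - ∑ x, c.1 x) c.1, by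
        rw [Fintype.sum_option]; exact Nat.sub_add_cancel c.2⟩
      invFun := fun c => ⟨fun x => c.1 (some x), by
        have h := c.2; rw [Fintype.sum_option] at h
        show ∑ x, c.1 (some x) ≤ N
        omega⟩
      left_inv := fun c => rfl
      right_inv := fun c => Subtype.ext (funext fun o => by
        have h := c.2; rw [Fintype.sum_option] at h
        cases o
        · show N - ∑ x, c.1 (some x) = c.1 none; omega
        · rfl) }
  rw [Nat.card_congr (e.trans (Sym.equivNatSumOfFintype (Option α) N).symm), Nat.card_eq_fintype_card,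
    Sym.card_sym_eq_choose, Fintype.card_option,
    show Fintype.card α + 1 + N - 1 = N + Fintype.card α by omega, Nat.choose_symm_add]

/-- Non-zero tuples with weight `w` times the sum at most `n`. -/
theorem card_ne_zero_weight_le (α : Type*) [Fintype α] {w : ℕ} (hw : 0 < w) (n : ℕ) :
    Nat.card {c : α → ℕ // c ≠ 0 ∧ w * ∑ x, c x ≤ n} =
      Nat.choose (n / w + Fintype.card α) (Fintype.card α) - 1 := by
  classical
  have h1 : ∀ c : α → ℕ, w * ∑ x, c x ≤ n ↔ ∑ x, c x ≤ n / w := fun c => by
    rw [Nat.le_div_iff_mul_le hw, mul_comm]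
  have hfin : Finite {c : α → ℕ // ∑ x, c x ≤ n / w} :=
    Nat.finite_of_card_ne_zero (by rw [card_sum_le]; exact (Nat.choose_pos (Nat.le_add_left _ _)).ne')
  let z : {c : α → ℕ // ∑ x, c x ≤ n / w} := ⟨0, by simp⟩
  let e : {c : α → ℕ // c ≠ 0 ∧ w * ∑ x, c x ≤ n} ≃ {c : {c : α → ℕ // ∑ x, c x ≤ n / w} // c ≠ z} :=
    { toFun := fun c => ⟨⟨c.1, (h1 _).1 c.2.2⟩, fun h => c.2.1 (congrArg Subtype.val h)⟩
      invFun := fun c => ⟨c.1.1, fun h => c.2 (Subtype.ext h), (h1 _).2 c.1.2⟩
      left_inv := fun _ => rfl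
      right_inv := fun _ => rfl }
  have := Fintype.ofFinite {c : α → ℕ // ∑ x, c x ≤ n / w}
  rw [Nat.card_congr e, ← card_sum_le, Nat.card_eq_fintype_card, Nat.card_eq_fintype_card,
    Fintype.card_subtype_compl, Fintype.card_subtype_eq]

/-- Non-zero tuples filling the whole weight. -/
theorem card_sum_eq (α : Type*) [Fintype α] (N : ℕ) (hα : 0 < Fintype.card α) :
    Nat.card {c : α → ℕ // ∑ x, c x = N} =
      Nat.choose (N + Fintype.card α - 1) (Fintype.card α - 1) := by
  classical
  rw [Nat.card_congr (Sym.equivNatSumOfFintype α N).symm, Nat.card_eq_fintype_card,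
    Sym.card_sym_eq_choose, Nat.add_comm N,
    show Fintype.card α + N - 1 = (Fintype.card α - 1) + N by omega, Nat.choose_symm_add]

/-- Classes described by a complete invariant are counted by its values. -/
theorem card_classes {G : Type*} [Monoid G] {β : Type*} (P : G → Prop) (inv : G → β) (V : β → Prop)
    (hconj : ∀ x y, P x → IsConj x y → inv x = inv y)
    (hsim : ∀ x y, P x → P y → inv x = inv y → IsConj x y)
    (hval : ∀ x, P x → V (inv x)) (hex : ∀ b, V b → ∃ x, P x ∧ inv x = b) :
    Nat.card {C : ConjClasses G // ∃ x, ConjClasses.mk x = C ∧ P x} = Nat.card {b // V b} := by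
  let f : {C : ConjClasses G // ∃ x, ConjClasses.mk x = C ∧ P x} → {b // V b} := fun C =>
    ⟨inv C.2.choose, hval _ C.2.choose_spec.2⟩
  refine Nat.card_eq_of_bijective f ⟨fun C D h => ?_, fun b => ?_⟩
  · refine Subtype.ext ?_
    rw [← C.2.choose_spec.1, ← D.2.choose_spec.1, ConjClasses.mk_eq_mk_iff_isConj]
    exact hsim _ _ C.2.choose_spec.2 D.2.choose_spec.2 (congrArg Subtype.val h)
  · obtain ⟨x, hx, hb⟩ := hex b.1 b.2
    have hC : ∃ y, ConjClasses.mk y = ConjClasses.mk x ∧ P y := ⟨x, rfl, hx⟩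
    refine ⟨⟨ConjClasses.mk x, hC⟩, Subtype.ext ?_⟩
    show inv hC.choose = b.1
    rw [← hb]
    exact hconj _ _ hC.choose_spec.2 (ConjClasses.mk_eq_mk_iff_isConj.1 hC.choose_spec.1)

end CfsgLib.PrimeClasses
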