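import Cfsg.Agent.Lib.PrimeClasses.Orthogonal

/-!
Realisation of multiplicities in the standard orthogonal groups, and counting of classes.
-/

set_option autoImplicit false
set_option linter.unusedSectionVars false

namespace CfsgLib.PrimeClasses

open Matrix CfsgLib.ClassicalGroups

section QuadFacts

variable {F : Type*} [Field F] {κ μ ν κ' : Type}

theorem qSum_rearrange (Q₁ : (κ → F) → F) (Q₂ : (μ → F) → F) (Q₃ : (ν → F) → F) (Q₄ : (κ' → F) → F) :
    QEquiv (qSum (qSum Q₁ Q₂) (qSum Q₃ Q₄)) (qSum (qSum Q₁ Q₃) (qSum Q₂ Q₄)) :=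
  QEquiv.of_equiv (Equiv.sumSumSumComm κ μ ν κ').symm fun v => by
    simp only [qSum]
    rw [add_add_add_comm]
    rfl

variable [Fintype F] {a c : F}
  (hac : ∀ z₁ z₂ : F, z₁ ^ 2 + a * z₁ * z₂ + c * z₂ ^ 2 = 0 → z₁ = 0 ∧ z₂ = 0)

include hac

theorem minus_add_minus' {i j k : ℕ} (h : i + j + 2 = k) :
    QEquiv (qSum (Cfsg.quadFormMinus i F a c) (Cfsg.quadFormMinus j F a c)) (Cfsg.quadFormPlus k F) := by
  subst h
  exact ((plus_add_minus i 0 a c).symm.qSum_congr (plus_add_minus j 0 a c).symm).trans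
    ((qSum_rearrange _ _ _ _).trans (((plus_add_plus i j).qSum_congr (minus_add_minus hac)).trans
      (plus_add_plus (i + j) 2)))

theorem minus_add_compLine (h2 : (2 : F) ≠ 0) {i k : ℕ} (h : i + 1 = k) :
    QEquiv (qSum (Cfsg.quadFormMinus i F a c) (compLine a c)) (Cfsg.quadFormOdd k F) := by
  subst h
  exact ((plus_add_minus i 0 a c).symm.qSum_congr (QEquiv.refl _)).trans
    ((qSum_assoc _ _ _).trans (((QEquiv.refl _).qSum_congr (minus_add_line h2 hac)).trans
      (plus_add_odd i 1)))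

omit hac [Fintype F]

theorem plus_add_plus' {i j k : ℕ} (h : i + j = k) :
    QEquiv (qSum (Cfsg.quadFormPlus i F) (Cfsg.quadFormPlus j F)) (Cfsg.quadFormPlus k F) :=
  h ▸ plus_add_plus i j

theorem plus_add_minus' (a₀ c₀ : F) {i j k : ℕ} (h : i + j = k) :
    QEquiv (qSum (Cfsg.quadFormPlus i F) (Cfsg.quadFormMinus j F a₀ c₀))
      (Cfsg.quadFormMinus k F a₀ c₀) :=
  h ▸ plus_add_minus i j a₀ c₀

theorem minus_add_plus' (a₀ c₀ : F) {i j k : ℕ} (h : i + j = k) :
    QEquiv (qSum (Cfsg.quadFormMinus i F a₀ c₀) (Cfsg.quadFormPlus j F))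
      (Cfsg.quadFormMinus k F a₀ c₀) :=
  (qSum_comm _ _).trans (plus_add_minus' a₀ c₀ (by omega))

theorem plus_add_odd' {i j k : ℕ} (h : i + j = k) :
    QEquiv (qSum (Cfsg.quadFormPlus i F) (Cfsg.quadFormOdd j F)) (Cfsg.quadFormOdd k F) :=
  h ▸ plus_add_odd i j

theorem odd_add_plus' {i j k : ℕ} (h : i + j = k) :
    QEquiv (qSum (Cfsg.quadFormOdd i F) (Cfsg.quadFormPlus j F)) (Cfsg.quadFormOdd k F) :=
  (qSum_comm _ _).trans (plus_add_odd' (by omega))

end QuadFacts

variable {F : Type*} [Field F] [Fintype F] {r : ℕ} [hr : Fact r.Prime]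
variable {L : Type*} [Field L] [Algebra F L] {ζ : L} (hζ : IsPrimitiveRoot ζ r) (hrK : (r : F) ≠ 0)

/-- A pair of dual orbits fills a hyperbolic space. -/
theorem O_realised_pair [DecidableEq (Orbits hrK)] (ω : Orbits hrK) :
    ORealised hζ hrK (Cfsg.quadFormPlus (orderOf (Fintype.card F : ZMod r)) F)
      (Pi.single ω 1 + Pi.single (orb hrK (-1) * ω) 1) := by
  set i := orderOf (Fintype.card F : ZMod r)
  obtain ⟨X, hX, hXc⟩ := exists_GL_realise hζ hrK (Pi.single ω 1) i (by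
    rw [Finset.sum_pi_single', if_pos (Finset.mem_univ ω), mul_one])
  let Xi : Matrix (Fin i) (Fin i) F := X ^ (r - 1)
  have hXi : Xi * X = 1 := by
    show X ^ (r - 1) * X = 1
    rw [← pow_succ, Nat.sub_add_cancel hr.out.pos, hX]
  refine ⟨Matrix.fromBlocks X 0 0 Xiᵀ, ?_, fun v => ?_, ?_⟩
  · rw [fromBlocks_pow, hX, ← transpose_pow, ← pow_mul, mul_comm, pow_mul, hX, one_pow, transpose_one,
      Matrix.fromBlocks_one]
  · have key : ∀ x y : Fin i → F, (X *ᵥ x) ⬝ᵥ (Xiᵀ *ᵥ y) = x ⬝ᵥ y := fun x y => by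
      rw [Matrix.mulVec_transpose, dotProduct_comm, ← Matrix.dotProduct_mulVec, mulVec_mulVec, hXi,
        one_mulVec, dotProduct_comm]
    simp only [Cfsg.quadFormPlus, Matrix.fromBlocks_mulVec, Sum.elim_inl, Sum.elim_inr,
      zero_mulVec, add_zero, zero_add]
    exact key _ _
  · rw [orbitMult_fromBlocks, hXc]
    congr 1
    funext η
    have h1 := orbitMult_inv_transpose hζ hrK hX hXi (orb hrK (-1) * η)
    rw [← mul_assoc, orb_neg_one_sq, one_mul, hXc] at h1
    rw [h1]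
    by_cases h : η = orb hrK (-1) * ω
    · rw [h, ← mul_assoc, orb_neg_one_sq, one_mul, Pi.single_eq_same, Pi.single_eq_same]
    · rw [Pi.single_eq_of_ne h, Pi.single_eq_of_ne]
      exact fun h' => h (by rw [← h', ← mul_assoc, orb_neg_one_sq, one_mul])

variable {a c : F} (hac : ∀ z₁ z₂ : F, z₁ ^ 2 + a * z₁ * z₂ + c * z₂ ^ 2 = 0 → z₁ = 0 ∧ z₂ = 0)

include hac in
/-- A self-dual orbit fills an elliptic space. -/
theorem O_realised_single [DecidableEq (Orbits hrK)] {j : ℕ}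
    (hj : orderOf (Fintype.card F : ZMod r) = 2 * j) (ω : Orbits hrK) :
    ORealised hζ hrK (Cfsg.quadFormMinus (j - 1) F a c) (Pi.single ω 1) := by
  have hjpos : 0 < j := by have := orbit_size_pos hrK; omega
  have hq : ((Fintype.card F ^ j + 1 : ℕ) : ZMod r) = 0 := by
    have h1 := pow_half_eq_neg_one unit_sq_eq_one (g := qUnit hrK)
      (by rw [← orderOf_units, coe_qUnit, hj]) ⟨j, by omega⟩ (by omega)
    have h2 := congrArg (fun u : (ZMod r)ˣ => (u : ZMod r)) h1
    simp only [Units.val_pow_eq_pow_val, coe_qUnit, Units.val_neg, Units.val_one] at h2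
    rw [show (2 * j) / 2 = j by omega] at h2
    rw [Nat.cast_add, Nat.cast_pow, Nat.cast_one, h2, neg_add_cancel]
  have hdiv : r ∣ Nat.card (Cfsg.isometryGroup F (Cfsg.quadFormMinus (j - 1) F a c)) := by
    rw [card_isometry_minus hac, Nat.sub_add_cancel hjpos]
    exact Dvd.dvd.mul_right (Dvd.dvd.mul_left ((CharP.cast_eq_zero_iff (ZMod r) r _).1 hq) _) _
  obtain ⟨g, hg⟩ := exists_prime_orderOf_dvd_card' r hdiv
  have hgr : g ^ r = 1 := orderOf_dvd_iff_pow_eq_one.1 (dvd_of_eq hg)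
  let X : Matrix ((Fin (j - 1) ⊕ Fin (j - 1)) ⊕ Fin 2) ((Fin (j - 1) ⊕ Fin (j - 1)) ⊕ Fin 2) F :=
    Units.val (g : GL ((Fin (j - 1) ⊕ Fin (j - 1)) ⊕ Fin 2) F)
  have hX : X ^ r = 1 := by
    show Units.val (g : GL ((Fin (j - 1) ⊕ Fin (j - 1)) ⊕ Fin 2) F) ^ r = 1
    rw [← Units.val_pow_eq_pow_val, ← SubgroupClass.coe_pow, hgr]
    rfl
  have hX1 : X ≠ 1 := fun h => by
    have : g = 1 := Subtype.ext (Units.ext h)
    rw [this, orderOf_one] at hg
    exact hr.out.one_lt.ne hg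
  obtain ⟨s, hs⟩ := exists_pow_eq_single hζ hX hX1
    (by simp only [Fintype.card_sum, Fintype.card_fin, hj]; omega) ω
  refine ⟨X ^ s, by rw [← pow_mul, mul_comm, pow_mul, hX, one_pow], fun v => ?_, hs⟩
  have := (g ^ s).2 v v
  rw [SubgroupClass.coe_pow] at this
  simpa [X] using this

/-- Symmetric tuples fill hyperbolic spaces. -/
theorem O_realise_plus (he : orb hrK (-1) ≠ 1) {d : Orbits hrK → ℕ} (hd : IsSym (orb hrK (-1)) d)
    {k : ℕ} (h : orderOf (Fintype.card F : ZMod r) * ∑ ω, d ω ≤ 2 * k) :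
    ORealised hζ hrK (Cfsg.quadFormPlus k F) d := by
  classical
  have := realise_sym_induction
    (R := fun n d => ORealised hζ hrK (Cfsg.quadFormPlus (n / 2) F) d)
    (orderOf (Fintype.card F : ZMod r)) (orb_neg_one_sq hrK) he (fun n => O_realised_zero hζ hrK _)
    (fun ω => by rw [Nat.mul_div_cancel_left _ two_pos]; exact O_realised_pair hζ hrK ω)
    (fun n m d d' h h' => ?_) d hd (2 * k) h
  · rwa [Nat.mul_div_cancel_left _ two_pos] at this
  · exact ((O_realised_sum hζ h h').of_qEquiv hζ (plus_add_plus (n / 2) (m / 2))).pad hζ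
      (Cfsg.quadFormPlus ((n + m) / 2 - (n / 2 + m / 2)) F) (plus_add_plus' (by omega))

include hac in
/-- With self-dual orbits, an even number of blocks fills a hyperbolic space, an odd number an
elliptic one. -/
theorem O_realise_blocks {j : ℕ} (hj : orderOf (Fintype.card F : ZMod r) = 2 * j)
    (d : Orbits hrK → ℕ) :
    (Even (∑ ω, d ω) → ORealised hζ hrK (Cfsg.quadFormPlus ((∑ ω, d ω) * j) F) d) ∧
    (Odd (∑ ω, d ω) → ORealised hζ hrK (Cfsg.quadFormMinus ((∑ ω, d ω) * j - 1) F a c) d) := by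
  classical
  have hjpos : 0 < j := by have := orbit_size_pos hrK; omega
  refine realise_induction (R := fun N d =>
    (Even N → ORealised hζ hrK (Cfsg.quadFormPlus (N * j) F) d) ∧
    (Odd N → ORealised hζ hrK (Cfsg.quadFormMinus (N * j - 1) F a c) d)) 1
    (fun N => ⟨fun _ => O_realised_zero hζ hrK _, fun _ => O_realised_zero hζ hrK _⟩)
    (fun ω => ⟨fun h => absurd h (by decide), fun _ => by
      rw [one_mul]; exact O_realised_single hζ hrK hac hj ω⟩)
    (fun N M u v hu hv => ?_) d _ (by rw [one_mul])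
  rcases Nat.even_or_odd N with hN | hN <;> rcases Nat.even_or_odd M with hM | hM
  · refine ⟨fun _ => ?_, fun h => absurd (hN.add hM) (Nat.not_even_iff_odd.2 h)⟩
    exact (O_realised_sum hζ (hu.1 hN) (hv.1 hM)).of_qEquiv hζ (plus_add_plus' (by rw [add_mul]))
  · refine ⟨fun h => absurd (hN.add_odd hM) (Nat.not_odd_iff_even.2 h), fun _ => ?_⟩
    exact (O_realised_sum hζ (hu.1 hN) (hv.2 hM)).of_qEquiv hζ (plus_add_minus' a c (by
      have : 1 ≤ M * j := Nat.mul_pos hM.pos hjpos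
      rw [add_mul]; omega))
  · refine ⟨fun h => absurd (hN.add_even hM) (Nat.not_odd_iff_even.2 h), fun _ => ?_⟩
    exact (O_realised_sum hζ (hu.2 hN) (hv.1 hM)).of_qEquiv hζ (minus_add_plus' a c (by
      have : 1 ≤ N * j := Nat.mul_pos hN.pos hjpos
      rw [add_mul]; omega))
  · refine ⟨fun _ => ?_, fun h => absurd (hN.add_odd hM) (Nat.not_even_iff_odd.2 h)⟩
    exact (O_realised_sum hζ (hu.2 hN) (hv.2 hM)).of_qEquiv hζ (minus_add_minus' hac (by
      have : 1 ≤ N * j := Nat.mul_pos hN.pos hjpos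
      have : 1 ≤ M * j := Nat.mul_pos hM.pos hjpos
      rw [add_mul]; omega))

include hac in
/-- The same orbits cannot fill both types of even-dimensional space. -/
theorem not_both_types (hgen : Algebra.adjoin F ({ζ} : Set L) = ⊤) (hr2 : r ≠ 2) {m : ℕ} (hm : 1 ≤ m)
    {d : Orbits hrK → ℕ} (hfull : orderOf (Fintype.card F : ZMod r) * ∑ ω, d ω = 2 * m)
    (h₁ : ORealised hζ hrK (Cfsg.quadFormPlus m F) d)
    (h₂ : ORealised hζ hrK (Cfsg.quadFormMinus (m - 1) F a c) d) : False := by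
  obtain ⟨B, hT⟩ := exists_isQuadPair_minus hac m
  refine not_both_full hζ hgen hr2 hrK hT (plus_add_minus' a c (Nat.add_zero m))
    (minus_add_plus' a c (show m - 1 + 1 = m by omega)) (by simp [Cfsg.quadFormPlus])
    (by simp [Cfsg.quadFormMinus]) (fun v hv => ?_) ⟨(Pi.single (Sum.inl 0) 1 : Fin 1 ⊕ Fin 1 → F), ?_, ?_⟩ h₁ h₂
    (by simpa [two_mul] using hfull)
  · simp only [Cfsg.quadFormMinus, Finset.univ_eq_empty, Finset.sum_empty, zero_add] at hv
    obtain ⟨e1, e2⟩ := hac _ _ hv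
    funext i
    rcases i with (i | i) | i
    · exact i.elim0
    · exact i.elim0
    · fin_cases i
      exacts [e1, e2]
  · exact fun h => (one_ne_zero : (1 : F) ≠ 0) (by simpa using congrFun h (Sum.inl (0 : Fin 1)))
  · simp [Cfsg.quadFormPlus]

/-- Classes of elements of order `r` of an orthogonal group correspond to the realised tuples. -/
theorem card_O_classes (hgen : Algebra.adjoin F ({ζ} : Set L) = ⊤) (hr2 : r ≠ 2) {κ : Type}
    [Fintype κ] [DecidableEq κ] {Q : (κ → F) → F} {B : (κ → F) →ₗ[F] (κ → F) →ₗ[F] F}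
    (hQ : IsQuadPair Q B) (V : (Orbits hrK → ℕ) → Prop)
    (hval : ∀ X : Matrix κ κ F, X ^ r = 1 → (∀ v, Q (X *ᵥ v) = Q v) →
      orbitMult hζ hrK X ≠ 0 → V (orbitMult hζ hrK X))
    (hex : ∀ d, V d → d ≠ 0 ∧ ORealised hζ hrK Q d) :
    Nat.card {C : ConjClasses (Cfsg.isometryGroup F Q) // ∃ g : Cfsg.isometryGroup F Q,
      ConjClasses.mk g = C ∧ orderOf g = r} = Nat.card {d // V d} := by
  have hpow : ∀ g : Cfsg.isometryGroup F Q, orderOf g = r →
      ((g : GL κ F) : Matrix κ κ F) ^ r = 1 := fun g hg => by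
    rw [← Units.val_pow_eq_pow_val, ← SubgroupClass.coe_pow, orderOf_dvd_iff_pow_eq_one.1 (dvd_of_eq hg)]
    rfl
  refine card_classes (fun g : Cfsg.isometryGroup F Q => orderOf g = r)
    (fun g => orbitMult hζ hrK ((g : GL κ F) : Matrix κ κ F)) V ?_ ?_ ?_ ?_
  · intro x y _ hxy
    obtain ⟨g, rfl⟩ := isConj_iff.1 hxy
    exact (orbitMult_conj hζ hrK (g : GL κ F) _).symm
  · intro x y hx hy h
    obtain ⟨g, hg⟩ := exists_conj_of_orbitMult hζ hgen hrK (hpow x hx) (hpow y hy) h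
    obtain ⟨QF, rfl, hnd⟩ := exists_quadraticForm hQ
    exact IsomConj.O_isConj_of_similar QF hnd (hr.out.odd_of_ne_two hr2) hrK x y
      (orderOf_dvd_iff_pow_eq_one.1 (dvd_of_eq hx))
      (isConj_iff.2 ⟨g, mul_inv_eq_iff_eq_mul.2 (Units.ext hg)⟩)
  · intro x hx
    refine hval _ (hpow x hx) (fun v => x.2 v v) fun h => ?_
    have h1 : x = 1 := Subtype.ext (Units.ext (eq_one_of_orbitMult hζ hrK (hpow x hx) h))
    rw [h1, orderOf_one] at hx
    exact hr.out.one_lt.ne hx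
  · intro d hd
    obtain ⟨hd0, X, hX, hXQ, hXc⟩ := hex d hd
    obtain ⟨g, rfl⟩ : ∃ g : GL κ F, (g : Matrix κ κ F) = X :=
      ⟨(IsUnit.of_pow_eq_one hX hr.out.ne_zero).unit, IsUnit.unit_spec _⟩
    refine ⟨⟨g, fun u _ => hXQ u⟩, orderOf_eq_prime (Subtype.ext (Units.ext (by simpa using hX)))
      fun h => hd0 ?_, hXc⟩
    have hg1 : g = 1 := congrArg Subtype.val h
    rw [← hXc, hg1, Units.val_one, orbitMult_one]

/-- Removing a subfamily from a bounded family of tuples. -/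
theorem card_exclude {α : Type*} [Fintype α] (P R : (α → ℕ) → Prop) (n : ℕ)
    (hP : ∀ d, P d → ∑ x, d x ≤ n) (hR : ∀ d, R d → P d) :
    Nat.card {d // P d ∧ ¬ R d} = Nat.card {d // P d} - Nat.card {d // R d} := by
  classical
  have hfin : Finite {d : α → ℕ // ∑ x, d x ≤ n} :=
    Nat.finite_of_card_ne_zero (by rw [card_sum_le]; exact (Nat.choose_pos (Nat.le_add_left _ _)).ne')
  have : Finite {d // P d} :=
    Finite.of_injective (fun d : {d // P d} => (⟨d.1, hP _ d.2⟩ : {d : α → ℕ // ∑ x, d x ≤ n}))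
      fun x y h => Subtype.ext (congrArg (fun z : {d : α → ℕ // ∑ x, d x ≤ n} => z.1) h)
  have := Fintype.ofFinite {d // P d}
  rw [← Nat.card_congr (Equiv.subtypeSubtypeEquivSubtypeInter P fun d => ¬ R d),
    ← Nat.card_congr (Equiv.subtypeSubtypeEquivSubtype fun {d} (h : R d) => hR d h),
    Nat.card_eq_fintype_card, Nat.card_eq_fintype_card, Nat.card_eq_fintype_card,
    Fintype.card_subtype_compl]

end CfsgLib.PrimeClasses
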