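import Cfsg.Agent.Lib.PrimeClasses.Count

/-!
Orbits of the rotation of tuples indexed by `ZMod r`.
-/

set_option autoImplicit false
set_option linter.unusedSectionVars false

namespace CfsgLib.PrimeClasses

/-- Tuples summing to `n` with every entry less than `n`. -/
abbrev Tup (r n : ℕ) [NeZero r] : Type := {a : ZMod r → ℕ // ∑ j, a j = n ∧ ∀ j, a j < n}

variable {r n : ℕ} [NeZero r]

instance : MulAction (Multiplicative (ZMod r)) (Tup r n) where
  smul k a := ⟨fun j => a.1 (j - k.toAdd), by
    refine ⟨?_, fun j => a.2.2 _⟩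
    exact (Equiv.sum_comp (Equiv.subRight k.toAdd) a.1).trans a.2.1⟩
  one_smul a := Subtype.ext (funext fun j => congrArg a.1 (sub_zero j))
  mul_smul k l a := Subtype.ext (funext fun j => congrArg a.1 (sub_add_eq_sub_sub j k.toAdd l.toAdd))

theorem Tup.smul_apply (k : Multiplicative (ZMod r)) (a : Tup r n) (j : ZMod r) :
    (k • a).1 j = a.1 (j - k.toAdd) := rfl

instance Tup.finite : Finite (Tup r n) :=
  Finite.of_injective (fun a : Tup r n => fun j => (⟨a.1 j, a.2.2 j⟩ : Fin n)) fun a b h =>
    Subtype.ext (funext fun j => congrArg Fin.val (congrFun h j))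

theorem card_tup (hn : 1 ≤ n) :
    Nat.card (Tup r n) = Nat.choose (n + r - 1) (r - 1) - r := by
  classical
  let P : (ZMod r → ℕ) → Prop := fun a => ∑ j, a j = n
  let z : ZMod r → {a // P a} := fun j => ⟨Pi.single j n, by simp [P]⟩
  have hzinj : Function.Injective z := fun i j h => by
    by_contra hne
    have := congrFun (congrArg Subtype.val h) i
    simp only [z, Pi.single_eq_same, Pi.single_eq_of_ne hne] at this
    omega
  have hfin : Finite {a // P a} :=
    Finite.of_injective (fun a : {a // P a} => fun j => (⟨a.1 j, Nat.lt_succ_of_le ((Finset.single_le_sum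
      (fun _ _ => Nat.zero_le _) (Finset.mem_univ j)).trans_eq a.2)⟩ : Fin (n + 1))) fun a b h =>
      Subtype.ext (funext fun j => congrArg Fin.val (congrFun h j))
  have := Fintype.ofFinite {a // P a}
  let e : Tup r n ≃ {a : {a // P a} // a ∉ Finset.univ.image z} :=
    { toFun := fun a => ⟨⟨a.1, a.2.1⟩, fun h => by
        obtain ⟨j, -, hj⟩ := Finset.mem_image.1 h
        have := congrFun (congrArg Subtype.val hj) j
        simp only [z, Pi.single_eq_same] at this
        exact (a.2.2 j).ne this.symm⟩
      invFun := fun a => ⟨a.1.1, a.1.2, fun j => lt_of_not_ge fun hge => a.2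
        (Finset.mem_image.2 ⟨j, Finset.mem_univ _, Subtype.ext (funext fun i => by
          have hj : a.1.1 j = n :=
            le_antisymm ((Finset.single_le_sum (fun _ _ => Nat.zero_le _) (Finset.mem_univ j)).trans_eq a.1.2) hge
          show (Pi.single j n : ZMod r → ℕ) i = a.1.1 i
          by_cases hij : i = j
          · rw [hij, Pi.single_eq_same, hj]
          · have h2 : a.1.1 j + a.1.1 i ≤ n := by
              refine le_trans ?_ (le_of_eq a.1.2)
              rw [← Finset.sum_pair (Ne.symm hij)]
              exact Finset.sum_le_sum_of_subset (Finset.subset_univ _)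
            rw [Pi.single_eq_of_ne hij]
            omega)⟩)⟩
      left_inv := fun _ => rfl
      right_inv := fun _ => rfl }
  rw [Nat.card_congr e, Nat.card_eq_fintype_card, Fintype.card_subtype_compl, Fintype.card_coe,
    Finset.card_image_of_injective _ hzinj, Finset.card_univ, ← Nat.card_eq_fintype_card,
    card_sum_eq _ n Fintype.card_pos, ZMod.card]

theorem card_fixedBy_tup [hr : Fact r.Prime] (hn : 2 ≤ n) {k : Multiplicative (ZMod r)} (hk : k ≠ 1) :
    Nat.card (MulAction.fixedBy (Tup r n) k) = if r ∣ n then 1 else 0 := by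
  have hconst : ∀ a : Tup r n, k • a = a → ∀ j, a.1 j = a.1 0 := fun a ha j => by
    have hstep : ∀ (m : ℕ) (i : ZMod r), a.1 (i + m * k.toAdd) = a.1 i := fun m => by
      induction m with
      | zero => simp
      | succ m ih =>
        intro i
        have h1 := congrFun (congrArg Subtype.val ha) (i + (m + 1 : ℕ) * k.toAdd)
        rw [Tup.smul_apply] at h1
        rw [← h1, Nat.cast_succ, show i + ((m : ZMod r) + 1) * k.toAdd - k.toAdd = i + m * k.toAdd by ring, ih]
    have hk0 : k.toAdd ≠ 0 := fun h => hk (toAdd_eq_zero.1 h)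
    have := hstep (j * k.toAdd⁻¹).val 0
    rwa [ZMod.natCast_zmod_val, inv_mul_cancel_right₀ hk0, zero_add] at this
  have hsum : ∀ a : Tup r n, k • a = a → n = r * a.1 0 := fun a ha => by
    refine a.2.1.symm.trans ?_
    rw [Finset.sum_congr rfl (fun j _ => hconst a ha j), Finset.sum_const, Finset.card_univ, ZMod.card,
      smul_eq_mul]
  split_ifs with h
  · obtain ⟨d, hd⟩ := h
    rw [Nat.card_eq_one_iff_unique]
    refine ⟨⟨fun a b => Subtype.ext (Subtype.ext (funext fun j => ?_))⟩,
      ⟨⟨⟨fun _ => d, by simp [hd], fun _ => ?_⟩, Subtype.ext (funext fun _ => rfl)⟩⟩⟩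
    · rw [hconst a.1 a.2, hconst b.1 b.2]
      exact Nat.eq_of_mul_eq_mul_left hr.out.pos ((hsum a.1 a.2).symm.trans (hsum b.1 b.2))
    · have hd0 : 0 < d := Nat.pos_of_ne_zero fun h0 => by rw [h0, mul_zero] at hd; omega
      calc d = 1 * d := (one_mul d).symm
        _ < r * d := Nat.mul_lt_mul_of_pos_right hr.out.one_lt hd0
        _ = n := hd.symm
  · have : IsEmpty (MulAction.fixedBy (Tup r n) k) := ⟨fun a => h ⟨_, hsum a.1 a.2⟩⟩
    exact Nat.card_of_isEmpty

/-- The number of rotation orbits. -/
theorem card_orbits_tup [hr : Fact r.Prime] (hn : 2 ≤ n) :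
    Nat.card (MulAction.orbitRel.Quotient (Multiplicative (ZMod r)) (Tup r n)) =
      (Nat.choose (n + r - 1) (r - 1) - r - (if r ∣ n then 1 else 0)) / r +
        (if r ∣ n then 1 else 0) := by
  classical
  have := Fintype.ofFinite (Tup r n)
  have := Fintype.ofFinite (MulAction.orbitRel.Quotient (Multiplicative (ZMod r)) (Tup r n))
  have hB := MulAction.sum_card_fixedBy_eq_card_orbits_mul_card_group (Multiplicative (ZMod r)) (Tup r n)
  rw [← Finset.add_sum_erase _ _ (Finset.mem_univ (1 : Multiplicative (ZMod r))),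
    Finset.sum_congr rfl (fun k hk => by
      rw [← Nat.card_eq_fintype_card, card_fixedBy_tup hn (Finset.mem_erase.1 hk).1]),
    Finset.sum_const, Finset.card_erase_of_mem (Finset.mem_univ _), Finset.card_univ,
    Fintype.card_multiplicative, ZMod.card, ← Nat.card_eq_fintype_card, smul_eq_mul] at hB
  have h1 : Nat.card (MulAction.fixedBy (Tup r n) (1 : Multiplicative (ZMod r))) =
      Nat.choose (n + r - 1) (r - 1) - r := by
    rw [MulAction.fixedBy_one_eq_univ, Nat.card_univ, card_tup (by omega)]
  have hle : (if r ∣ n then 1 else 0) ≤ Nat.choose (n + r - 1) (r - 1) - r := by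
    have hk : Multiplicative.ofAdd (1 : ZMod r) ≠ 1 := fun h => one_ne_zero (ofAdd_eq_one.1 h)
    rw [← card_fixedBy_tup hn hk, ← card_tup (r := r) (by omega : 1 ≤ n)]
    exact Nat.card_le_card_of_injective _ Subtype.val_injective
  rw [h1, ← Nat.card_eq_fintype_card] at hB
  set O := Nat.card (MulAction.orbitRel.Quotient (Multiplicative (ZMod r)) (Tup r n))
  set T := Nat.choose (n + r - 1) (r - 1) - r
  have hrpos := hr.out.pos
  rw [← Nat.mul_div_cancel O hrpos, ← hB]
  split_ifs with h
  · rw [if_pos h] at hle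
    rw [← Nat.add_div_right _ hrpos]
    congr 1
    omega
  · simp

end CfsgLib.PrimeClasses
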