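import Cfsg.Agent.Lib.PrimeClasses.SplitRoots
import Cfsg.Agent.Lib.PrimeClasses.Rotation
import Cfsg.Agent.Lib.PrimeClasses.Kummer

/-!
Classes of elements of prime order modulo scalars, in a matrix group containing monomial matrices.
-/

set_option autoImplicit false
set_option linter.unusedSectionVars false

namespace CfsgLib.PrimeClasses

open Matrix

variable {F : Type*} [Field F] {n : ℕ}

/-- Scalar matrices as units. -/
noncomputable def scGL : Fˣ →* GL (Fin n) F := Units.map (Matrix.scalar (Fin n)).toMonoidHom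

theorem coe_scGL (c : Fˣ) : ((scGL c : GL (Fin n) F) : Matrix (Fin n) (Fin n) F) = (c : F) • 1 := by
  show Matrix.scalar (Fin n) (c : F) = _
  rw [Matrix.scalar_apply, Matrix.smul_one_eq_diagonal]

theorem scGL_comm (c : Fˣ) (g : GL (Fin n) F) : scGL c * g = g * scGL c :=
  Units.ext (by simp [coe_scGL])

theorem scGL_injective (hn : 1 ≤ n) : Function.Injective (scGL (F := F) (n := n)) := fun a b h => by
  have := congrArg (fun g : GL (Fin n) F => (g : Matrix (Fin n) (Fin n) F) ⟨0, hn⟩ ⟨0, hn⟩) h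
  simp only [coe_scGL, Matrix.smul_apply, Matrix.one_apply_eq, smul_eq_mul, mul_one] at this
  exact Units.ext this

/-- Endomorphisms with the same non-power scalar as `r`-th power are similar. -/
theorem exists_kummer_conj {r : ℕ} (hr : r.Prime) {z : F} (hz : ∀ w : F, w ^ r ≠ z)
    {X Y : Matrix (Fin n) (Fin n) F} (hX : X ^ r = z • 1) (hY : Y ^ r = z • 1) :
    r ∣ n ∧ ∃ g : GL (Fin n) F, (g : Matrix (Fin n) (Fin n) F) * X = Y * (g : Matrix (Fin n) (Fin n) F) := by
  obtain ⟨hd, e, he⟩ := exists_kummer_intertwine (V := Fin n → F) (W := Fin n → F) hr hz rfl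
    (x := Matrix.toLinAlgEquiv' X) (y := Matrix.toLinAlgEquiv' Y)
    (by rw [← map_pow, hX, map_smul, map_one]) (by rw [← map_pow, hY, map_smul, map_one])
  rw [Module.finrank_fin_fun] at hd
  refine ⟨hd, ⟨LinearMap.toMatrix' e.toLinearMap, LinearMap.toMatrix' e.symm.toLinearMap,
    by simp [← LinearMap.toMatrix'_comp], by simp [← LinearMap.toMatrix'_comp]⟩, ?_⟩
  refine Matrix.ext_of_mulVec_single fun j => ?_
  simp only [← mulVec_mulVec, LinearMap.toMatrix'_mulVec]
  exact he _

variable [Fintype F]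

/-- Classes of elements of prime order `r` modulo scalars. -/
theorem card_projective_classes {r : ℕ} [hr : Fact r.Prime] {G : Type*} [Group G]
    (f : G →* GL (Fin n) F) (hf : Function.Injective f) (μ : Subgroup Fˣ)
    (hmon : ∀ (σ : Equiv.Perm (Fin n)) (d : Fin n → Fˣ), (∀ i, d i ∈ μ) → ∃ x, f x = monomialGL σ d)
    (hsc : ∀ x c, f x = scGL c → c ∈ μ)
    (hsim : ∀ x y : G, IsConj (f x) (f y) → IsConj x y)
    (hn : 2 ≤ n) (hμ : r ∣ Nat.card μ)
    (hpow : ∀ c ∈ μ, ∀ w : Fˣ, w ^ r = c → ∃ w' ∈ μ, w' ^ r = c) :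
    Nat.card {C : ConjClasses (G ⧸ Subgroup.center G) // ∃ g : G ⧸ Subgroup.center G,
      ConjClasses.mk g = C ∧ orderOf g = r} =
      (Nat.choose (n + r - 1) (r - 1) - r - (if r ∣ n then 1 else 0)) / r +
        r * (if r ∣ n then 1 else 0) := by
  classical
  have hn1 : 1 ≤ n := by omega
  have : Nonempty (Fin n) := ⟨⟨0, hn1⟩⟩
  obtain ⟨w, hw⟩ := exists_prime_orderOf_dvd_card' r hμ
  have hwu : IsPrimitiveRoot (w : Fˣ) r := by
    rw [← hw, ← Subgroup.orderOf_coe]; exact IsPrimitiveRoot.orderOf _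
  have hζ : IsPrimitiveRoot ((w : Fˣ) : F) r := IsPrimitiveRoot.coe_units_iff.2 hwu
  let M : G → Matrix (Fin n) (Fin n) F := fun x => (f x : Matrix (Fin n) (Fin n) F)
  have hscmem : ∀ c ∈ μ, ∃ x, f x = scGL c := fun c hc => by
    obtain ⟨x, hx⟩ := hmon 1 (fun _ => c) fun _ => hc
    refine ⟨x, hx.trans (Units.ext ?_)⟩
    show monomial' 1 (fun _ => (c : F)) = _
    rw [monomial'_one, coe_scGL, Matrix.smul_one_eq_diagonal]
  have hρ : ∀ k : ZMod r, ∃ c : Fˣ, c ∈ μ ∧ (c : F) = rootChar hζ k := fun k =>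
    ⟨(w : Fˣ) ^ k.val, pow_mem w.2 _, by rw [rootChar_apply, Units.val_pow_eq_pow_val]⟩
  -- the centre consists of the scalars
  have hcent : ∀ x : G, x ∈ Subgroup.center G ↔ ∃ c ∈ μ, f x = scGL c := by
    intro x
    constructor
    · intro hx
      have hcomm : ∀ y, M y * M x = M x * M y := fun y => by
        simp only [M, ← Units.val_mul, ← map_mul, Subgroup.mem_center_iff.1 hx y]
      obtain ⟨c, hc, hc1⟩ : ∃ c ∈ μ, c ≠ (1 : Fˣ) := ⟨w, w.2, fun h => hr.out.one_lt.ne
        (by rw [← hw, ← Subgroup.orderOf_coe, h, orderOf_one])⟩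
      have hoff : ∀ a b, a ≠ b → M x a b = 0 := fun a b hab => by
        obtain ⟨y, hy⟩ := hmon 1 (Function.update 1 a c) fun i => by
          by_cases hi : i = a <;> simp [hi, hc, one_mem]
        have hMy : M y = Matrix.diagonal fun i => ((Function.update 1 a c : Fin n → Fˣ) i : F) := by
          show ((f y : GL (Fin n) F) : Matrix (Fin n) (Fin n) F) = _
          rw [hy]
          exact monomial'_one _
        have h := congrFun (congrFun (hcomm y) a) b
        rw [hMy, Matrix.diagonal_mul, Matrix.mul_diagonal, Function.update_self,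
          Function.update_of_ne (Ne.symm hab), Pi.one_apply, Units.val_one, mul_one] at h
        by_contra h0
        exact hc1 (Units.ext (mul_left_eq_self₀.1 h |>.resolve_right h0))
      have hdiag : ∀ a b, M x a a = M x b b := fun a b => by
        obtain ⟨y, hy⟩ := hmon (Equiv.swap a b) 1 fun i => one_mem μ
        have hMy : M y = monomial' (Equiv.swap a b) fun _ => (1 : F) := by
          show ((f y : GL (Fin n) F) : Matrix (Fin n) (Fin n) F) = _
          rw [hy]
          rfl
        have h := congrFun (congrFun (hcomm y) a) b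
        simp only [hMy, Matrix.mul_apply, monomial', Matrix.of_apply] at h
        rw [Finset.sum_eq_single b (fun j _ hj => by
            rw [if_neg fun h' => hj (by rw [← Equiv.swap_apply_self a b j, ← h', Equiv.swap_apply_left]), zero_mul])
            (fun h' => absurd (Finset.mem_univ b) h'),
          Finset.sum_eq_single a (fun j _ hj => by
            rw [if_neg fun h' => hj (by rw [h', Equiv.swap_apply_right]), mul_zero])
            (fun h' => absurd (Finset.mem_univ a) h'),
          if_pos (Equiv.swap_apply_right a b).symm, one_mul, mul_one] at h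
        exact h.symm
      let a₀ : Fin n := ⟨0, hn1⟩
      have hMx : M x = M x a₀ a₀ • 1 := by
        ext a b
        by_cases hab : a = b
        · subst hab; rw [Matrix.smul_apply, Matrix.one_apply_eq, smul_eq_mul, mul_one, hdiag a a₀]
        · rw [Matrix.smul_apply, Matrix.one_apply_ne hab, smul_zero, hoff a b hab]
      have h0 : M x a₀ a₀ ≠ 0 := fun h0 => by
        rw [h0, zero_smul] at hMx
        exact (f x).ne_zero hMx
      exact ⟨Units.mk0 _ h0, hsc x _ (Units.ext (by rw [coe_scGL]; exact hMx)),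
        Units.ext (by rw [coe_scGL]; exact hMx)⟩
    · rintro ⟨c, -, hc⟩
      exact Subgroup.mem_center_iff.2 fun y => hf (by rw [map_mul, map_mul, hc, scGL_comm])
  have hmk : ∀ x : G, (x : G ⧸ Subgroup.center G) = 1 ↔ ∃ c ∈ μ, f x = scGL c := fun x => by
    rw [QuotientGroup.eq_one_iff, hcent]
  have hP : ∀ x : G, orderOf (x : G ⧸ Subgroup.center G) = r →
      (∃ c ∈ μ, f x ^ r = scGL c) ∧ ∀ c ∈ μ, f x ≠ scGL c := fun x hx => by
    refine ⟨?_, fun c hc h => ?_⟩
    · obtain ⟨c, hc, h⟩ := (hmk (x ^ r)).1 (by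
        rw [QuotientGroup.mk_pow, orderOf_dvd_iff_pow_eq_one.1 (dvd_of_eq hx)])
      exact ⟨c, hc, by rw [← map_pow, h]⟩
    · rw [(hmk x).2 ⟨c, hc, h⟩, orderOf_one] at hx
      exact hr.out.one_lt.ne hx
  have hrel : ∀ x y : G, IsConj (x : G ⧸ Subgroup.center G) y →
      ∃ c ∈ μ, IsConj (f x) (f y * scGL c) := fun x y h => by
    obtain ⟨k, hk⟩ := isConj_iff.1 h
    obtain ⟨k, rfl⟩ := QuotientGroup.mk_surjective k
    rw [← QuotientGroup.mk_inv, ← QuotientGroup.mk_mul, ← QuotientGroup.mk_mul, eq_comm,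
      QuotientGroup.eq, hcent] at hk
    obtain ⟨c, hc, hc'⟩ := hk
    refine ⟨c, hc, isConj_iff.2 ⟨f k, ?_⟩⟩
    rw [← hc', ← map_mul f y, mul_inv_cancel_left, map_mul, map_mul, map_inv]
  have hrel' : ∀ (x y : G), ∀ c ∈ μ, IsConj (f x) (f y * scGL c) →
      IsConj (x : G ⧸ Subgroup.center G) y := fun x y c hc h => by
    obtain ⟨z, hz⟩ := hscmem c hc
    rw [← hz, ← map_mul] at h
    have h2 := (QuotientGroup.mk' (Subgroup.center G)).map_isConj (hsim _ _ h)
    simp only [QuotientGroup.mk'_apply, QuotientGroup.mk_mul,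
      (hmk z).2 ⟨c, hc, hz⟩, mul_one] at h2
    exact h2
  -- elements with `r`-th power one
  have hmul : ∀ (x : G) (c : Fˣ), ((f x * scGL c : GL (Fin n) F) : Matrix (Fin n) (Fin n) F) =
      (c : F) • M x := fun x c => by rw [Units.val_mul, coe_scGL, Matrix.mul_smul, mul_one]
  have hMr : ∀ x, f x ^ r = 1 → M x ^ r = 1 := fun x hx => by
    show ((f x : GL (Fin n) F) : Matrix (Fin n) (Fin n) F) ^ r = 1
    rw [← Units.val_pow_eq_pow_val, hx, Units.val_one]
  have hL1 : ∀ x : G, orderOf (x : G ⧸ Subgroup.center G) = r → f x ^ r = 1 →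
      ∃ a : Tup r n, a.1 = mult hζ (M x) := fun x hx hx1 => by
    have hs : ∑ u, mult hζ (M x) u = n :=
      (sum_mult hζ (natCast_ne_zero_of_root hζ) (hMr x hx1)).trans (Fintype.card_fin n)
    refine ⟨⟨mult hζ (M x), hs, fun u => lt_of_not_ge fun hge => ?_⟩, rfl⟩
    have h0 : ∀ v, v ≠ u → mult hζ (M x) v = 0 := fun v hv => by
      have h2 : mult hζ (M x) u + mult hζ (M x) v ≤ n := by
        refine le_trans ?_ (le_of_eq hs)
        rw [← Finset.sum_pair (Ne.symm hv)]
        exact Finset.sum_le_sum_of_subset (Finset.subset_univ _)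
      omega
    obtain ⟨c, hc, hcu⟩ := hρ u
    exact (hP x hx).2 c hc (Units.ext (by rw [coe_scGL, hcu]; exact eq_scalar_of_mult hζ (hMr x hx1) h0))
  have hL2 : ∀ x y : G, f x ^ r = 1 → f y ^ r = 1 → IsConj (x : G ⧸ Subgroup.center G) y →
      ∃ k : ZMod r, ∀ u, mult hζ (M x) u = mult hζ (M y) (u - k) := fun x y hx hy h => by
    obtain ⟨c, -, hc⟩ := hrel x y h
    obtain ⟨g, hg⟩ := isConj_iff.1 hc
    have hcr : scGL c ^ r = (1 : GL (Fin n) F) := by
      have e : (f y * scGL c) ^ r = 1 := by rw [← hg, conj_pow, hx, mul_one, mul_inv_cancel]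
      rwa [(show Commute (f y) (scGL c) from (scGL_comm c (f y)).symm).mul_pow, hy, one_mul] at e
    obtain ⟨k, hk⟩ := exists_rootChar_eq hζ (c := (c : F)) (by
      rw [← Units.val_pow_eq_pow_val, scGL_injective hn1 (by rw [map_pow, hcr, map_one] : scGL (c ^ r) = scGL 1),
        Units.val_one])
    refine ⟨k, fun u => ?_⟩
    have e := congrArg (fun z : GL (Fin n) F => (z : Matrix (Fin n) (Fin n) F)) hg
    simp only [Units.val_mul (f y), coe_scGL, Matrix.mul_smul, mul_one, Units.val_mul] at e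
    rw [← mult_conj hζ g u (M x), e, ← hk, ← mult_smul hζ (M y) k (u - k), sub_add_cancel]
  -- the invariant
  let cls : G → μ ⧸ (powMonoidHom r : μ →* μ).range := fun x =>
    if h : ∃ c : μ, f x ^ r = scGL (c : Fˣ) then QuotientGroup.mk h.choose else 1
  have hcls : ∀ (x : G) (c : μ), f x ^ r = scGL (c : Fˣ) → cls x = QuotientGroup.mk c := fun x c hc => by
    have h : ∃ c : μ, f x ^ r = scGL (c : Fˣ) := ⟨c, hc⟩
    simp only [cls, dif_pos h]
    exact congrArg _ (Subtype.ext (scGL_injective hn1 (h.choose_spec.symm.trans hc)))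
  let split : G ⧸ Subgroup.center G → Prop := fun g =>
    ∃ a : Tup r n, ∃ x : G, (x : G ⧸ Subgroup.center G) = g ∧ f x ^ r = 1 ∧ a.1 = mult hζ (M x)
  have hsplit : ∀ x : G, orderOf (x : G ⧸ Subgroup.center G) = r → cls x = 1 → split x := fun x hx h => by
    obtain ⟨c, hc, hc'⟩ := (hP x hx).1
    rw [hcls x ⟨c, hc⟩ hc', QuotientGroup.eq_one_iff] at h
    obtain ⟨v, hv⟩ := h
    have hv' : (v : Fˣ) ^ r = c := congrArg Subtype.val hv
    obtain ⟨z, hz⟩ := hscmem _ (inv_mem v.2)
    have hxz : ((x * z : G) : G ⧸ Subgroup.center G) = x := by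
      rw [QuotientGroup.mk_mul, (hmk z).2 ⟨_, inv_mem v.2, hz⟩, mul_one]
    have h1 : f (x * z) ^ r = 1 := by
      rw [map_mul, hz, (show Commute (f x) (scGL _) from (scGL_comm _ _).symm).mul_pow, hc', ← map_pow,
        ← map_mul, inv_pow, hv', mul_inv_cancel, map_one]
    obtain ⟨a, ha⟩ := hL1 (x * z) (by rw [hxz, hx]) h1
    exact ⟨a, x * z, hxz, h1, ha⟩
  have hsplit' : ∀ g g', orderOf g = r → IsConj g g' → split g → split g' := fun g g' hg hgg h => by
    obtain ⟨a, x, rfl, hx, -⟩ := h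
    obtain ⟨k, rfl⟩ := isConj_iff.1 hgg
    obtain ⟨k, rfl⟩ := QuotientGroup.mk_surjective k
    have h1 : f (k * x * k⁻¹) ^ r = 1 := by rw [map_mul, map_mul, map_inv, conj_pow, hx, mul_one, mul_inv_cancel]
    obtain ⟨b, hb⟩ := hL1 (k * x * k⁻¹) (by
      rw [← hg, QuotientGroup.mk_mul, QuotientGroup.mk_mul, QuotientGroup.mk_inv,
        ← MulAut.conj_apply, MulEquiv.orderOf_eq]) h1
    exact ⟨b, k * x * k⁻¹, by simp, h1, hb⟩
  have hL3 : ∀ x y : G, orderOf (x : G ⧸ Subgroup.center G) = r →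
      orderOf (y : G ⧸ Subgroup.center G) = r → IsConj (x : G ⧸ Subgroup.center G) y →
      cls x = cls y := fun x y hx hy h => by
    obtain ⟨c, hc, hc'⟩ := (hP x hx).1
    obtain ⟨d, hd, hd'⟩ := (hP y hy).1
    obtain ⟨e, he, hxy⟩ := hrel x y h
    obtain ⟨g, hg⟩ := isConj_iff.1 hxy
    have h2 : scGL c = (scGL (d * e ^ r) : GL (Fin n) F) := by
      have := congrArg (· ^ r) hg
      simp only [conj_pow, hc', (show Commute (f y) (scGL e) from (scGL_comm e (f y)).symm).mul_pow, hd'] at this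
      rw [← map_pow, ← map_mul, ← scGL_comm, mul_inv_cancel_right] at this
      exact this
    rw [hcls x ⟨c, hc⟩ hc', hcls y ⟨d, hd⟩ hd', QuotientGroup.eq]
    refine ⟨⟨e⁻¹, inv_mem he⟩, Subtype.ext ?_⟩
    show e⁻¹ ^ r = c⁻¹ * d
    rw [scGL_injective hn1 h2, _root_.mul_inv_rev, mul_assoc, inv_mul_cancel, mul_one, inv_pow]
  let inv : G ⧸ Subgroup.center G →
      MulAction.orbitRel.Quotient (Multiplicative (ZMod r)) (Tup r n) ⊕
        (μ ⧸ (powMonoidHom r : μ →* μ).range) := fun g =>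
    if h : split g then Sum.inl (Quotient.mk'' h.choose) else Sum.inr (cls g.out)
  have hout : ∀ g : G ⧸ Subgroup.center G, IsConj (g.out : G ⧸ Subgroup.center G) g := fun g => by
    rw [QuotientGroup.out_eq']
  have hnonpow : ∀ x : G, orderOf (x : G ⧸ Subgroup.center G) = r → ¬ split x →
      ∀ c ∈ μ, f x ^ r = scGL c → ∀ v : F, v ^ r ≠ (c : F) := fun x hx hns c hc hc' v hv => by
    have hv0 : v ≠ 0 := fun h => c.ne_zero (by rw [← hv, h, zero_pow hr.out.ne_zero])
    obtain ⟨v', hv', hvv⟩ := hpow c hc (Units.mk0 v hv0) (Units.ext hv)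
    refine hns (hsplit x hx ?_)
    rw [hcls x ⟨c, hc⟩ hc', QuotientGroup.eq_one_iff]
    exact ⟨⟨v', hv'⟩, Subtype.ext hvv⟩
  rw [card_classes (fun g : G ⧸ Subgroup.center G => orderOf g = r) inv
    (Sum.elim (fun _ => True) (fun κ => r ∣ n ∧ κ ≠ 1)) ?_ ?_ ?_ ?_]
  · rw [Nat.card_congr Equiv.subtypeSum]
    have : Fintype μ := Fintype.ofFinite _
    have h1 : Nat.card {κ : μ ⧸ (powMonoidHom r : μ →* μ).range // r ∣ n ∧ κ ≠ 1} =
        (r - 1) * if r ∣ n then 1 else 0 := by
      have hidx : Nat.card (μ ⧸ (powMonoidHom r : μ →* μ).range) = r := by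
        rw [← Subgroup.index_eq_card, IsCyclic.index_powMonoidHom_range, Nat.gcd_eq_right hμ]
      split_ifs with hd
      · rw [mul_one, Nat.card_congr (Equiv.subtypeEquivRight fun κ => and_iff_right hd)]
        have := Fintype.ofFinite (μ ⧸ (powMonoidHom r : μ →* μ).range)
        rw [Nat.card_eq_fintype_card, Fintype.card_subtype_compl, Fintype.card_subtype_eq,
          ← Nat.card_eq_fintype_card, hidx]
      · rw [mul_zero]
        have : IsEmpty {κ : μ ⧸ (powMonoidHom r : μ →* μ).range // r ∣ n ∧ κ ≠ 1} := ⟨fun κ => hd κ.2.1⟩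
        exact Nat.card_of_isEmpty
    have : Finite (MulAction.orbitRel.Quotient (Multiplicative (ZMod r)) (Tup r n)) := inferInstance
    rw [Nat.card_sum]
    simp only [Sum.elim_inl, Sum.elim_inr, h1]
    rw [Nat.card_congr (Equiv.subtypeUnivEquiv fun _ => trivial), card_orbits_tup hn, add_assoc]
    congr 1
    have := hr.out.pos
    split_ifs <;> omega
  · intro g g' hg hgg
    have hg' : orderOf g' = r := by
      obtain ⟨k, rfl⟩ := isConj_iff.1 hgg
      rw [← MulAut.conj_apply, MulEquiv.orderOf_eq, hg]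
    by_cases h : split g
    · have h' := hsplit' g g' hg hgg h
      simp only [inv, dif_pos h, dif_pos h']
      obtain ⟨x, hx, hx1, hxa⟩ := h.choose_spec
      obtain ⟨y, hy, hy1, hyb⟩ := h'.choose_spec
      obtain ⟨k, hk⟩ := hL2 x y hx1 hy1 (by rw [hx, hy]; exact hgg)
      refine congrArg Sum.inl (Quotient.sound' ⟨Multiplicative.ofAdd k, Subtype.ext (funext fun u => ?_)⟩)
      show h'.choose.1 (u - k) = h.choose.1 u
      rw [hxa, hyb, hk]
    · have h' : ¬ split g' := fun h' => h (hsplit' g' g hg' hgg.symm h')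
      simp only [inv, dif_neg h, dif_neg h']
      exact congrArg Sum.inr (hL3 _ _ (by simp [hg]) (by simp [hg']) (by simpa using hgg))
  · intro g g' hg hg' he
    by_cases h : split g <;> by_cases h' : split g'
    · simp only [inv, dif_pos h, dif_pos h', Sum.inl.injEq] at he
      obtain ⟨x, hx, hx1, hxa⟩ := h.choose_spec
      obtain ⟨y, hy, hy1, hyb⟩ := h'.choose_spec
      obtain ⟨k, hk⟩ := Quotient.exact' he
      rw [← hx, ← hy]
      obtain ⟨c, hc, hcr⟩ := hρ k.toAdd
      refine hrel' x y c hc ?_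
      obtain ⟨z, hz⟩ := exists_conj_of_mult hζ (X := M x) (Y := (f y * scGL c : GL (Fin n) F))
        (hMr x hx1) (by
          rw [hmul, hcr, smul_pow, rootChar_pow_self, hMr y hy1, one_smul]) fun u => by
          rw [hmul, hcr, ← sub_add_cancel u k.toAdd, mult_smul, sub_add_cancel, ← hxa, ← hyb, ← hk]
          rfl
      exact isConj_iff.2 ⟨z, mul_inv_eq_iff_eq_mul.2 (Units.ext hz)⟩
    · simp only [inv, dif_pos h, dif_neg h', reduceCtorEq] at he
    · simp only [inv, dif_neg h, dif_pos h', reduceCtorEq] at he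
    · simp only [inv, dif_neg h, dif_neg h', Sum.inr.injEq] at he
      obtain ⟨x, rfl⟩ : ∃ x : G, (x : G ⧸ Subgroup.center G) = g := QuotientGroup.mk_surjective g
      obtain ⟨y, rfl⟩ : ∃ y : G, (y : G ⧸ Subgroup.center G) = g' := QuotientGroup.mk_surjective g'
      rw [hL3 _ x (by simp [hg]) hg (hout _), hL3 _ y (by simp [hg']) hg' (hout _)] at he
      obtain ⟨c, hc, hc'⟩ := (hP x hg).1
      obtain ⟨d, hd, hd'⟩ := (hP y hg').1
      rw [hcls x ⟨c, hc⟩ hc', hcls y ⟨d, hd⟩ hd', QuotientGroup.eq] at he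
      obtain ⟨v, hv⟩ := he
      have hv' : (v : Fˣ) ^ r = c⁻¹ * d := congrArg Subtype.val hv
      refine hrel' x y (v : Fˣ)⁻¹ (inv_mem v.2) ?_
      have hnp := hnonpow x hg h c hc hc'
      obtain ⟨-, z, hz⟩ := exists_kummer_conj hr.out hnp (X := M x)
        (Y := (f y * scGL (v : Fˣ)⁻¹ : GL (Fin n) F))
        (by
          show ((f x : GL (Fin n) F) : Matrix (Fin n) (Fin n) F) ^ r = _
          rw [← Units.val_pow_eq_pow_val, hc', coe_scGL])
        (by
          rw [← Units.val_pow_eq_pow_val, (show Commute (f y) (scGL _) from (scGL_comm _ _).symm).mul_pow,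
            hd', ← map_pow, ← map_mul, coe_scGL, inv_pow, hv', _root_.mul_inv_rev, inv_inv,
            mul_inv_cancel_left])
      exact isConj_iff.2 ⟨z, mul_inv_eq_iff_eq_mul.2 (Units.ext hz)⟩
  · intro g hg
    by_cases h : split g
    · simp only [inv, dif_pos h, Sum.elim_inl]
    · simp only [inv, dif_neg h, Sum.elim_inr]
      obtain ⟨c, hc, hc'⟩ := (hP g.out (by simpa using hg)).1
      have hns : ¬ split (g.out : G ⧸ Subgroup.center G) := by simpa using h
      have hnp := hnonpow g.out (by simpa using hg) hns c hc hc'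
      refine ⟨(exists_kummer_conj hr.out hnp (X := M g.out) (Y := M g.out) ?_ ?_).1,
        fun h1 => hns (hsplit _ (by simpa using hg) h1)⟩ <;>
      · show ((f g.out : GL (Fin n) F) : Matrix (Fin n) (Fin n) F) ^ r = _
        rw [← Units.val_pow_eq_pow_val, hc', coe_scGL]
  · intro b hb
    rcases b with ω | κ
    · obtain ⟨a, rfl⟩ := Quotient.mk''_surjective ω
      let e : Fin n ≃ (u : ZMod r) × Fin (a.1 u) := Fintype.equivOfCardEq (by simp [a.2.1])
      choose ρ hρμ hρc using hρ
      obtain ⟨x, hx⟩ := hmon 1 (fun i => ρ (e i).1) fun i => hρμ _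
      have hMx : M x = Matrix.diagonal fun i => rootChar hζ (e i).1 := by
        show ((f x : GL (Fin n) F) : Matrix (Fin n) (Fin n) F) = _
        rw [hx]
        exact (monomial'_one _).trans (congrArg Matrix.diagonal (funext fun i => hρc _))
      have hx1 : f x ^ r = 1 := Units.ext (by
        rw [Units.val_pow_eq_pow_val, show ((f x : GL (Fin n) F) : Matrix (Fin n) (Fin n) F) = M x from rfl,
          hMx, Matrix.diagonal_pow, Units.val_one, ← Matrix.diagonal_one]
        congr 1
        funext i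
        exact rootChar_pow_self hζ _)
      have hmult : ∀ u, mult hζ (M x) u = a.1 u := fun u => by
        rw [hMx, mult_diagonal, ← Fintype.card_fin (a.1 u)]
        exact Fintype.card_congr ((Equiv.subtypeEquiv e fun i => Iff.rfl).trans
          (Equiv.sigmaSubtype u))
      have hne : (x : G ⧸ Subgroup.center G) ≠ 1 := fun h => by
        obtain ⟨c, hc, hc'⟩ := (hmk x).1 h
        have hMc : M x = (c : F) • 1 :=
          (congrArg (fun z : GL (Fin n) F => (z : Matrix (Fin n) (Fin n) F)) hc').trans (coe_scGL c)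
        rw [hMx, Matrix.smul_one_eq_diagonal, Matrix.diagonal_eq_diagonal_iff] at hMc
        have hall : ∀ i j, (e i).1 = (e j).1 := fun i j => by
          have := (hMc i).trans (hMc j).symm
          rw [rootChar_apply, rootChar_apply] at this
          exact ZMod.val_injective r (hζ.pow_inj (ZMod.val_lt _) (ZMod.val_lt _) this)
        obtain ⟨i₀⟩ : Nonempty (Fin n) := ⟨⟨0, hn1⟩⟩
        refine (a.2.2 (e i₀).1).ne ?_
        rw [← hmult, hMx, mult_diagonal,
          Fintype.card_congr (Equiv.subtypeUnivEquiv fun i => hall i i₀), Fintype.card_fin]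
      have hord : orderOf (x : G ⧸ Subgroup.center G) = r := orderOf_eq_prime (by
        rw [← QuotientGroup.mk_pow, hmk]
        exact ⟨1, one_mem μ, by rw [map_pow, hx1, map_one]⟩) hne
      have hs : split (x : G ⧸ Subgroup.center G) := ⟨a, x, rfl, hx1, (funext hmult).symm⟩
      refine ⟨x, hord, ?_⟩
      simp only [inv, dif_pos hs]
      obtain ⟨y, hy, hy1, hyb⟩ := hs.choose_spec
      obtain ⟨k, hk⟩ := hL2 y x hy1 hx1 (by rw [hy])
      refine congrArg Sum.inl (Quotient.sound' ⟨Multiplicative.ofAdd k, Subtype.ext (funext fun u => ?_)⟩)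
      show a.1 (u - k) = hs.choose.1 u
      rw [hyb, hk, hmult]
    · obtain ⟨⟨k, hk⟩, hκ⟩ : r ∣ n ∧ κ ≠ 1 := hb
      obtain ⟨c, rfl⟩ := QuotientGroup.mk_surjective κ
      obtain ⟨σ, d, hd, hpw⟩ := exists_monomial_pow_eq (ι := Fin n) (r := r) (k := k)
        (by rw [Fintype.card_fin, hk]) (c : Fˣ)
      obtain ⟨x, hx⟩ := hmon σ d fun j => by
        rcases hd j with h | h <;> rw [h]
        exacts [one_mem μ, c.2]
      have hxr : f x ^ r = scGL (c : Fˣ) :=
        Units.ext (by rw [Units.val_pow_eq_pow_val, hx, hpw, coe_scGL])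
      have hne : (x : G ⧸ Subgroup.center G) ≠ 1 := fun h => by
        obtain ⟨v, hv, hv'⟩ := (hmk x).1 h
        rw [hv', ← map_pow] at hxr
        exact hκ ((QuotientGroup.eq_one_iff _).2 ⟨⟨v, hv⟩, Subtype.ext (scGL_injective hn1 hxr)⟩)
      have hord : orderOf (x : G ⧸ Subgroup.center G) = r := orderOf_eq_prime (by
        rw [← QuotientGroup.mk_pow, hmk]
        exact ⟨c, c.2, by rw [map_pow, hxr]⟩) hne
      have hns : ¬ split (x : G ⧸ Subgroup.center G) := fun ⟨a, y, hy, hy1, _⟩ => hκ (by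
        rw [← hcls x c hxr, hL3 x y hord (by rw [hy, hord]) (by rw [hy]),
          hcls y 1 (by rw [hy1, OneMemClass.coe_one, map_one]), QuotientGroup.mk_one])
      refine ⟨x, hord, ?_⟩
      simp only [inv, dif_neg hns]
      rw [hL3 _ x (by simp [hord]) hord (hout _), hcls x c hxr]

end CfsgLib.PrimeClasses
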