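import Cfsg.Agent.Lib.PrimeClasses.Sym

/-!
The symmetry of multiplicities of isometries: invariance under `u ↦ -u`.
-/

set_option autoImplicit false
set_option linter.unusedSectionVars false

namespace CfsgLib.PrimeClasses

open Matrix

variable {K : Type*} [Field K] [Fintype K] {r : ℕ} [hr : Fact r.Prime]

/-- The orbit of a unit. -/
noncomputable abbrev orb (hrK : (r : K) ≠ 0) (u : (ZMod r)ˣ) : Orbits hrK := QuotientGroup.mk u

theorem orbit_size_eq (hrK : (r : K) ≠ 0) :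
    orderOf (Fintype.card K : ZMod r) = orderOf (qUnit hrK) := by
  rw [← coe_qUnit hrK, orderOf_units]

theorem orb_neg_one_sq (hrK : (r : K) ≠ 0) : orb hrK (-1) * orb hrK (-1) = 1 := by
  rw [← QuotientGroup.mk_mul, neg_one_mul, neg_neg, QuotientGroup.mk_one]

theorem neg_one_unit_ne_one (hr2 : r ≠ 2) : (-1 : (ZMod r)ˣ) ≠ 1 := fun h => by
  have h1 : ((2 : ℕ) : ZMod r) = 0 := by
    have := congrArg (fun u : (ZMod r)ˣ => (u : ZMod r)) h
    simp only [Units.val_neg, Units.val_one] at this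
    push_cast
    linear_combination -this
  rw [CharP.cast_eq_zero_iff (ZMod r) r] at h1
  exact hr2 ((Nat.prime_dvd_prime_iff_eq hr.out Nat.prime_two).1 h1)

theorem pow_half_eq_neg_one {G : Type*} [Monoid G] [HasDistribNeg G] {g : G}
    (hinj : ∀ x : G, x * x = 1 → x = 1 ∨ x = -1) {i : ℕ} (hi : orderOf g = i) (hev : Even i)
    (hpos : 0 < i) : g ^ (i / 2) = -1 := by
  obtain ⟨j, hj⟩ := hev
  rcases hinj (g ^ (i / 2)) (by rw [← pow_add, show i / 2 + i / 2 = i by omega, ← hi, pow_orderOf_eq_one]) with h | h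
  · exfalso
    have := Nat.le_of_dvd (by omega) (orderOf_dvd_of_pow_eq_one h)
    omega
  · exact h

theorem unit_sq_eq_one (x : (ZMod r)ˣ) (h : x * x = 1) : x = 1 ∨ x = -1 := by
  have h1 : (x : ZMod r) * x = 1 := by rw [← Units.val_mul, h, Units.val_one]
  rcases mul_self_eq_one_iff.1 h1 with h2 | h2
  · exact Or.inl (Units.ext h2)
  · exact Or.inr (Units.ext (by rw [h2, Units.val_neg, Units.val_one]))

theorem orb_neg_one_eq_one_iff (hrK : (r : K) ≠ 0) (hr2 : r ≠ 2) :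
    orb hrK (-1) = 1 ↔ Even (orderOf (Fintype.card K : ZMod r)) := by
  rw [orbit_size_eq hrK, QuotientGroup.eq_one_iff]
  constructor
  · intro h
    have h2 : orderOf (-1 : (ZMod r)ˣ) = 2 :=
      orderOf_eq_prime (by rw [neg_one_sq]) (neg_one_unit_ne_one hr2)
    rw [← Nat.card_zpowers, even_iff_two_dvd, ← h2]
    exact Subgroup.orderOf_dvd_natCard _ h
  · intro h
    rw [← pow_half_eq_neg_one unit_sq_eq_one rfl h (orderOf_pos _)]
    exact pow_mem (Subgroup.mem_zpowers _) _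

variable {L : Type*} [Field L] [Algebra K L] {ζ : L} (hζ : IsPrimitiveRoot ζ r)
variable {ι : Type*} [Fintype ι] [DecidableEq ι]

theorem orbitMult_inv (hrK : (r : K) ≠ 0) {X Y : Matrix ι ι K} (hX : X ^ r = 1) (hXY : Y * X = 1)
    (ω : Orbits hrK) : orbitMult hζ hrK Y (orb hrK (-1) * ω) = orbitMult hζ hrK X ω := by
  have hY : Y = X ^ ((-1 : (ZMod r)ˣ) : ZMod r).val := by
    have h1 : X * X ^ ((-1 : (ZMod r)ˣ) : ZMod r).val = 1 := by
      rw [← pow_succ', pow_eq_pow_mod _ hX,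
        show (((-1 : (ZMod r)ˣ) : ZMod r).val + 1) % r = ((((-1 : (ZMod r)ˣ) : ZMod r)) + 1).val by
          rw [ZMod.val_add, ZMod.val_one],
        Units.val_neg, Units.val_one, neg_add_cancel, ZMod.val_zero, pow_zero]
    calc Y = Y * (X * X ^ ((-1 : (ZMod r)ˣ) : ZMod r).val) := by rw [h1, mul_one]
      _ = _ := by rw [← Matrix.mul_assoc, hXY, one_mul]
  rw [hY]
  exact orbitMult_pow hζ hrK hX (-1) ω

theorem orbitMult_inv_transpose (hrK : (r : K) ≠ 0) {X Y : Matrix ι ι K} (hX : X ^ r = 1)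
    (hXY : Y * X = 1) (ω : Orbits hrK) :
    orbitMult hζ hrK Yᵀ (orb hrK (-1) * ω) = orbitMult hζ hrK X ω := by
  rw [orbitMult_transpose]
  exact orbitMult_inv hζ hrK hX hXY ω

/-- Isometries of a non-degenerate bilinear form have symmetric multiplicities. -/
theorem isSym_of_isometry (hrK : (r : K) ≠ 0) {X B : Matrix ι ι K} (hX : X ^ r = 1)
    (hB : IsUnit B.det) (h : Xᵀ * B * X = B) :
    IsSym (orb hrK (-1)) (orbitMult hζ hrK X) := by
  intro ω
  obtain ⟨b, rfl⟩ := (Matrix.isUnit_iff_isUnit_det B).2 hB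
  have h1 : ((↑b⁻¹ : Matrix ι ι K) * Xᵀ * (b : Matrix ι ι K)) * X = 1 := by
    rw [Matrix.mul_assoc _ (b : Matrix ι ι K) X, Matrix.mul_assoc, ← Matrix.mul_assoc Xᵀ, h,
      Units.inv_mul]
  have h2 := orbitMult_inv hζ hrK hX h1 ω
  have h3 : orbitMult hζ hrK ((↑b⁻¹ : Matrix ι ι K) * Xᵀ * (b : Matrix ι ι K)) =
      orbitMult hζ hrK X := by
    have := orbitMult_conj hζ hrK b⁻¹ Xᵀ
    rw [inv_inv, orbitMult_transpose] at this
    exact this
  rwa [h3] at h2

theorem fromBlocks_pow {κ : Type*} [Fintype κ] [DecidableEq κ] (X : Matrix ι ι K) (Y : Matrix κ κ K)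
    (k : ℕ) : (Matrix.fromBlocks X 0 0 Y) ^ k = Matrix.fromBlocks (X ^ k) 0 0 (Y ^ k) := by
  induction k with
  | zero => simp [Matrix.fromBlocks_one]
  | succ k ih => rw [pow_succ, pow_succ, pow_succ, ih, Matrix.fromBlocks_multiply]; simp

theorem reindex_pow {κ : Type*} [Fintype κ] [DecidableEq κ] (e : ι ≃ κ) (X : Matrix ι ι K) (k : ℕ) :
    (Matrix.reindex e e X) ^ k = Matrix.reindex e e (X ^ k) :=
  (map_pow (Matrix.reindexAlgEquiv K K e) X k).symm

end CfsgLib.PrimeClasses
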