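import Mathlib

/-!
Eigenprojections of a matrix `M` with `M ^ r = 1` over a field containing a primitive `r`-th root of
unity, and the multiplicities `mult`.
-/

set_option autoImplicit false

namespace CfsgLib.PrimeClasses

open Matrix Finset

variable {L : Type*} [Field L] {ι : Type*} [Fintype ι] [DecidableEq ι]
variable {r : ℕ} [hr : Fact r.Prime] {ζ : L} (hζ : IsPrimitiveRoot ζ r)

/-- The character `u ↦ ζ ^ u` of `ZMod r`. -/
noncomputable def rootChar : AddChar (ZMod r) L := AddChar.zmodChar r hζ.pow_eq_one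

theorem rootChar_apply (u : ZMod r) : rootChar hζ u = ζ ^ u.val := AddChar.zmodChar_apply _ _

theorem rootChar_pow (u : ZMod r) (n : ℕ) : rootChar hζ u ^ n = rootChar hζ (n * u) := by
  rw [← AddChar.map_nsmul_eq_pow, nsmul_eq_mul]

theorem map_rootChar {L' : Type*} [Field L'] {ζ' : L'} (hζ' : IsPrimitiveRoot ζ' r) (σ : L →+* L')
    (c : ℕ) (hσ : σ ζ = ζ' ^ c) (u : ZMod r) : σ (rootChar hζ u) = rootChar hζ' (c * u) := by
  rw [rootChar_apply, map_pow, hσ, ← pow_mul, mul_comm c, pow_mul, ← rootChar_apply, rootChar_pow]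

theorem rootChar_pow_one : rootChar hζ (1 : ZMod r) = ζ := by
  rw [rootChar_apply, ZMod.val_one, pow_one]

theorem sum_rootChar_mul (b : ZMod r) :
    ∑ x, rootChar hζ (x * b) = if b = 0 then (r : L) else 0 := by
  rw [show rootChar hζ = AddChar.zmodChar r hζ.pow_eq_one from rfl,
    AddChar.sum_mulShift b (AddChar.zmodChar_primitive_of_primitive_root r hζ)]
  by_cases hb : b = 0 <;> simp [hb]

theorem pow_val_add {M : Matrix ι ι L} (hM : M ^ r = 1) (a b : ZMod r) :
    M ^ (a + b).val = M ^ a.val * M ^ b.val := by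
  rw [← pow_add, ZMod.val_add]
  exact (pow_eq_pow_mod _ hM).symm

theorem pow_eq_pow_val {M : Matrix ι ι L} (hM : M ^ r = 1) (n : ℕ) : M ^ n = M ^ (n : ZMod r).val := by
  rw [ZMod.val_natCast]; exact pow_eq_pow_mod _ hM

/-- The projection onto the `ζ ^ u`-eigenspace of `M`. -/
noncomputable def eigProj (M : Matrix ι ι L) (u : ZMod r) : Matrix ι ι L :=
  (r : L)⁻¹ • ∑ k : ZMod r, rootChar hζ (-(u * k)) • M ^ k.val

/-- The multiplicity of the eigenvalue `ζ ^ u`. -/
noncomputable def mult (M : Matrix ι ι L) (u : ZMod r) : ℕ := (eigProj hζ M u).rank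

variable {M : Matrix ι ι L}

theorem mul_eigProj (hM : M ^ r = 1) (u : ZMod r) :
    M * eigProj hζ M u = rootChar hζ u • eigProj hζ M u := by
  have h1 : ∀ k : ZMod r, M * M ^ k.val = M ^ (k + 1).val := fun k => by
    rw [pow_val_add hM, ZMod.val_one, pow_one, ← pow_succ', ← pow_succ]
  simp only [eigProj, mul_smul_comm, smul_comm (rootChar hζ u), Finset.mul_sum]
  congr 1
  rw [Finset.smul_sum]
  refine Fintype.sum_equiv (Equiv.addRight 1) _ _ fun k => ?_
  rw [h1, smul_smul, Equiv.coe_addRight, ← AddChar.map_add_eq_mul]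
  congr 2
  ring

theorem eigProj_comm (u : ZMod r) : M * eigProj hζ M u = eigProj hζ M u * M := by
  simp only [eigProj, mul_smul_comm, smul_mul_assoc, Finset.mul_sum, Finset.sum_mul, ← pow_succ,
    ← pow_succ']

theorem sum_eigProj (hr0 : (r : L) ≠ 0) (M : Matrix ι ι L) : ∑ u, eigProj hζ M u = 1 := by
  simp only [eigProj, ← Finset.smul_sum]
  rw [Finset.sum_comm]
  simp only [← Finset.sum_smul]
  have h1 : ∀ k : ZMod r, ∑ u, rootChar hζ (-(u * k)) = if k = 0 then (r : L) else 0 := fun k => by
    rw [Finset.sum_congr rfl (fun u _ => by rw [← mul_neg]), sum_rootChar_mul]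
    simp only [neg_eq_zero]
  simp only [h1, ite_smul, zero_smul, Finset.sum_ite_eq', Finset.mem_univ, if_true, ZMod.val_zero,
    pow_zero, smul_smul, inv_mul_cancel₀ hr0, one_smul]

theorem eigProj_mul_of_eigen {κ : Type*} (hr0 : (r : L) ≠ 0) {N : Matrix ι κ L} {u : ZMod r}
    (h : M * N = rootChar hζ u • N) (w : ZMod r) :
    eigProj hζ M w * N = if u = w then N else 0 := by
  have h1 : ∀ n : ℕ, M ^ n * N = rootChar hζ (n * u) • N := fun n => by
    induction n with
    | zero => simp
    | succ n ih =>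
      rw [pow_succ', Matrix.mul_assoc, ih, Matrix.mul_smul, h, smul_smul, ← AddChar.map_add_eq_mul,
        Nat.cast_succ]
      congr 2
      ring
  have h2 : ∑ k : ZMod r, rootChar hζ (-(w * k)) * rootChar hζ ((k.val : ZMod r) * u) =
      if u = w then (r : L) else 0 := by
    rw [Finset.sum_congr rfl (fun k _ => by rw [← AddChar.map_add_eq_mul, ZMod.natCast_zmod_val,
      show -(w * k) + k * u = k * (u - w) by ring]), sum_rootChar_mul]
    simp only [sub_eq_zero]
  rw [eigProj, Matrix.smul_mul, Matrix.sum_mul]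
  simp only [Matrix.smul_mul, h1, smul_smul]
  rw [← Finset.sum_smul, h2]
  split_ifs with h3 <;> simp [smul_smul, inv_mul_cancel₀ hr0]

theorem eigProj_mul_eigProj (hr0 : (r : L) ≠ 0) (hM : M ^ r = 1) (u w : ZMod r) :
    eigProj hζ M w * eigProj hζ M u = if u = w then eigProj hζ M u else 0 :=
  eigProj_mul_of_eigen hζ hr0 (mul_eigProj hζ hM u) w

theorem eigProj_intertwine {κ : Type*} [Fintype κ] [DecidableEq κ] {M' : Matrix κ κ L}
    {A : Matrix κ ι L} (h : A * M = M' * A) (u : ZMod r) :
    A * eigProj hζ M u = eigProj hζ M' u * A := by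
  have h1 : ∀ n : ℕ, A * M ^ n = M' ^ n * A := fun n => by
    induction n with
    | zero => simp
    | succ n ih => rw [pow_succ, ← Matrix.mul_assoc, ih, Matrix.mul_assoc, h, ← Matrix.mul_assoc, ← pow_succ]
  simp only [eigProj, Matrix.mul_smul, Matrix.smul_mul, Matrix.mul_sum, Matrix.sum_mul, h1]

theorem mult_conj (g : GL ι L) (u : ZMod r) (M : Matrix ι ι L) :
    mult hζ ((g : Matrix ι ι L) * M * (↑g⁻¹ : Matrix ι ι L)) u = mult hζ M u := by
  have h := eigProj_intertwine hζ (A := (g : Matrix ι ι L)) (M := M)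
    (M' := (g : Matrix ι ι L) * M * (↑g⁻¹ : Matrix ι ι L))
    (by rw [Matrix.mul_assoc _ (↑g⁻¹ : Matrix ι ι L), Units.inv_mul, mul_one]) u
  have h2 : eigProj hζ ((g : Matrix ι ι L) * M * (↑g⁻¹ : Matrix ι ι L)) u =
      (g : Matrix ι ι L) * eigProj hζ M u * (↑g⁻¹ : Matrix ι ι L) := by
    rw [h]
    exact ((Matrix.mul_assoc _ _ _).trans (by rw [Units.mul_inv, mul_one])).symm
  unfold mult
  rw [h2, Matrix.rank_mul_eq_left_of_isUnit_det _ _
      ((Matrix.isUnit_iff_isUnit_det _).1 (g⁻¹).isUnit),
    Matrix.rank_mul_eq_right_of_isUnit_det _ _ ((Matrix.isUnit_iff_isUnit_det _).1 g.isUnit)]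

theorem sum_mult (hr0 : (r : L) ≠ 0) (hM : M ^ r = 1) :
    ∑ u, mult hζ M u = Fintype.card ι := by
  let W : ZMod r → Submodule L (ι → L) := fun u => LinearMap.range (eigProj hζ M u).mulVecLin
  have hfix : ∀ u w (v : W u), eigProj hζ M w *ᵥ (v : ι → L) = if u = w then (v : ι → L) else 0 := by
    rintro u w ⟨v, x, rfl⟩
    show eigProj hζ M w *ᵥ (eigProj hζ M u *ᵥ x) = _
    rw [mulVec_mulVec, eigProj_mul_eigProj hζ hr0 hM]
    split_ifs <;> simp
  let e : (ι → L) ≃ₗ[L] ((u : ZMod r) → W u) :=
    { toFun := fun v u => ⟨eigProj hζ M u *ᵥ v, v, rfl⟩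
      invFun := fun f => ∑ u, (f u : ι → L)
      map_add' := fun v v' => funext fun u => Subtype.ext (mulVec_add _ _ _)
      map_smul' := fun c v => funext fun u => Subtype.ext (mulVec_smul _ _ _)
      left_inv := fun v => by
        show ∑ u, eigProj hζ M u *ᵥ v = v
        rw [← Matrix.sum_mulVec, sum_eigProj hζ hr0, one_mulVec]
      right_inv := fun f => funext fun u => Subtype.ext (by
        show eigProj hζ M u *ᵥ (∑ w, (f w : ι → L)) = _
        simp only [Matrix.mulVec_sum, hfix, Finset.sum_ite_eq', Finset.mem_univ, if_true]) }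
  have := e.finrank_eq
  rw [Module.finrank_fintype_fun_eq_card, Module.finrank_pi_fintype] at this
  exact this.symm

theorem eigProj_one (hr0 : (r : L) ≠ 0) (u : ZMod r) :
    eigProj hζ (1 : Matrix ι ι L) u = if u = 0 then 1 else 0 := by
  have h := eigProj_mul_of_eigen hζ hr0 (M := (1 : Matrix ι ι L)) (N := (1 : Matrix ι ι L)) (u := 0)
    (by simp) u
  rw [mul_one] at h
  rw [h]
  simp only [eq_comm]

theorem mult_one_of_ne (hr0 : (r : L) ≠ 0) {u : ZMod r} (hu : u ≠ 0) :
    mult hζ (1 : Matrix ι ι L) u = 0 := by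
  rw [mult, eigProj_one hζ hr0, if_neg hu, Matrix.rank_zero]

theorem eq_one_of_mult (hr0 : (r : L) ≠ 0) (hM : M ^ r = 1)
    (h : ∀ u, u ≠ 0 → mult hζ M u = 0) : M = 1 := by
  have hz : ∀ u, u ≠ 0 → eigProj hζ M u = 0 := fun u hu => by
    have h1 : LinearMap.range (eigProj hζ M u).mulVecLin = ⊥ := Submodule.finrank_eq_zero.1 (h u hu)
    rw [LinearMap.range_eq_bot] at h1
    exact Matrix.ext_of_mulVec_single fun j => by
      rw [zero_mulVec]; exact LinearMap.congr_fun h1 _
  have h0 : eigProj hζ M 0 = 1 := by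
    have := sum_eigProj hζ hr0 M
    rwa [Fintype.sum_eq_single 0 hz] at this
  have := mul_eigProj hζ hM 0
  rwa [h0, mul_one, AddChar.map_zero_eq_one, one_smul] at this

theorem eigProj_pow (hM : M ^ r = 1) (s : (ZMod r)ˣ) (u : ZMod r) :
    eigProj hζ (M ^ (s : ZMod r).val) ((s : ZMod r) * u) = eigProj hζ M u := by
  unfold eigProj
  congr 1
  refine Fintype.sum_equiv (Units.mulLeft s) _ _ fun k => ?_
  rw [← pow_mul, pow_eq_pow_val hM, Nat.cast_mul, ZMod.natCast_zmod_val, ZMod.natCast_zmod_val]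
  congr 2
  simp only [Units.mulLeft_apply]
  ring

theorem mult_pow (hM : M ^ r = 1) (s : (ZMod r)ˣ) (u : ZMod r) :
    mult hζ (M ^ (s : ZMod r).val) ((s : ZMod r) * u) = mult hζ M u := by
  rw [mult, eigProj_pow hζ hM, ← mult]

theorem eigProj_transpose (u : ZMod r) : eigProj hζ Mᵀ u = (eigProj hζ M u)ᵀ := by
  simp [eigProj, transpose_smul, transpose_sum, transpose_pow]

theorem mult_transpose (u : ZMod r) : mult hζ Mᵀ u = mult hζ M u := by
  rw [mult, eigProj_transpose, Matrix.rank_transpose, ← mult]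

theorem eigProj_map {L' : Type*} [Field L'] {ζ' : L'} (hζ' : IsPrimitiveRoot ζ' r) (σ : L →+* L')
    (c : ℕ) (hσ : σ ζ = ζ' ^ c) (u : ZMod r) :
    eigProj hζ' (M.map σ) ((c : ZMod r) * u) = (eigProj hζ M u).map σ := by
  have h1 : ∀ n : ℕ, (M.map σ) ^ n = (M ^ n).map σ := fun n => by
    induction n with
    | zero => simp
    | succ n ih => rw [pow_succ, pow_succ, ih, Matrix.map_mul]
  ext a b
  simp only [eigProj, Matrix.smul_apply, Matrix.sum_apply, Matrix.map_apply, smul_eq_mul, map_mul,
    map_sum, map_inv₀, map_natCast, h1, map_rootChar hζ hζ' σ c hσ]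
  congr 1
  refine Finset.sum_congr rfl fun k _ => ?_
  congr 2
  ring

theorem rank_map_ringHom {L' : Type*} [Field L'] (σ : L →+* L') (A : Matrix ι ι L) :
    (A.map σ).rank = A.rank := by
  let := σ.toAlgebra
  refine le_antisymm ?_ ?_
  · obtain ⟨B, C, hA⟩ : ∃ (B : Matrix ι (Fin A.rank) L) (C : Matrix (Fin A.rank) ι L), A = B * C := by
      let W := LinearMap.range A.mulVecLin
      let b : Module.Basis (Fin A.rank) L W := Module.finBasisOfFinrankEq L W rfl
      refine ⟨LinearMap.toMatrix' (W.subtype ∘ₗ b.equivFun.symm.toLinearMap),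
        LinearMap.toMatrix' (b.equivFun.toLinearMap ∘ₗ A.mulVecLin.rangeRestrict), ?_⟩
      rw [← LinearMap.toMatrix'_comp, LinearMap.comp_assoc, ← LinearMap.comp_assoc _ b.equivFun.toLinearMap]
      simp only [LinearEquiv.symm_comp, LinearMap.id_comp]
      exact (LinearMap.toMatrix'_toLin' A).symm
    conv_lhs => rw [hA, Matrix.map_mul]
    exact (Matrix.rank_mul_le_left _ _).trans (by simpa using Matrix.rank_le_card_width (B.map σ))
  · obtain ⟨s, hs, hli⟩ : ∃ s : Finset ι, s.card = A.rank ∧
        LinearIndependent L (fun i : s => A.col i) := by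
      obtain ⟨b, hb1, hb2, hb3⟩ := exists_linearIndependent L (Set.range A.col)
      classical
      have hfin : b.Finite := (Set.finite_range _).subset hb1
      have hch : ∀ x : b, ∃ i, A.col i = x := fun x => hb1 x.2
      choose g hg using hch
      have hginj : Function.Injective g := fun x y e => Subtype.ext (by rw [← hg x, ← hg y, e])
      have := hfin.fintype
      refine ⟨Finset.univ.image g, ?_, ?_⟩
      · rw [Finset.card_image_of_injective _ hginj, Finset.card_univ, Matrix.rank,
          Matrix.range_mulVecLin, ← hb2, finrank_span_set_eq_card hb3, Set.toFinset_card]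
      · have hinv : ∀ i : (Finset.univ.image g), ∃ x : b, g x = i := fun i => by
          obtain ⟨x, -, hx⟩ := Finset.mem_image.1 i.2
          exact ⟨x, hx⟩
        choose h hh using hinv
        have hinj : Function.Injective h := fun x y e => Subtype.ext (by rw [← hh x, ← hh y, e])
        have : (fun i : (Finset.univ.image g) => A.col i) = Subtype.val ∘ h := by
          funext i; rw [Function.comp_apply, ← hg, hh]
        rw [this]
        exact hb3.comp h hinj
    obtain ⟨f, hf⟩ := LinearMap.exists_leftInverse_of_injective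
      (Fintype.linearCombination L (fun i : s => A.col i))
      (LinearMap.ker_eq_bot.2 (linearIndependent_iff_injective_fintypeLinearCombination.1 hli))
    let S : Matrix ι s L := Matrix.of fun a i => A a i
    have hS : LinearMap.toMatrix' f * S = 1 := by
      refine Matrix.ext_of_mulVec_single fun j => ?_
      rw [← mulVec_mulVec, LinearMap.toMatrix'_mulVec, one_mulVec]
      have h2 := LinearMap.congr_fun hf (Pi.single j 1)
      simp only [LinearMap.comp_apply, LinearMap.id_apply, Fintype.linearCombination_apply_single,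
        one_smul] at h2
      rw [Matrix.mulVec_single_one]
      exact h2
    have h3 : ((LinearMap.toMatrix' f).map σ * S.map σ).rank = s.card := by
      rw [← Matrix.map_mul, hS, Matrix.map_one _ (map_zero σ) (map_one σ), Matrix.rank_one,
        Fintype.card_coe]
    rw [← hs, ← h3]
    refine (Matrix.rank_mul_le_right _ _).trans ?_
    exact (show S.map σ = (A.map σ).submatrix id (Subtype.val : s → ι) from rfl) ▸
      (Matrix.rank_submatrix_le _ _ _)

end CfsgLib.PrimeClasses
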