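import Cfsg.Agent.Lib.PrimeClasses.Eigen

/-!
Frobenius orbits of `r`-th roots of unity over a finite field, descent of similarity, and block
decompositions.
-/

set_option autoImplicit false
set_option linter.unusedSectionVars false

namespace CfsgLib.PrimeClasses

open Matrix Finset

variable {K : Type*} [Field K] [Fintype K] {r : ℕ} [hr : Fact r.Prime]

/-- The cardinality of `K` as a residue modulo `r`, invertible as `r` is not the characteristic. -/
noncomputable def qUnit (hrK : (r : K) ≠ 0) : (ZMod r)ˣ :=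
  Units.mk0 (Fintype.card K : ZMod r) fun h => by
    obtain ⟨p, hp⟩ := CharP.exists K
    obtain ⟨f, hp', hK⟩ := FiniteField.card K p
    rw [CharP.cast_eq_zero_iff (ZMod r) r, hK] at h
    exact hrK (by rw [(Nat.prime_dvd_prime_iff_eq hr.out hp').1 (hr.out.dvd_of_dvd_pow h)]; exact CharP.cast_eq_zero K p)

theorem coe_qUnit (hrK : (r : K) ≠ 0) : ((qUnit hrK : (ZMod r)ˣ) : ZMod r) = Fintype.card K := rfl

/-- Orbits of non-trivial `r`-th roots of unity under the Frobenius of `K`. -/
abbrev Orbits (hrK : (r : K) ≠ 0) : Type := (ZMod r)ˣ ⧸ Subgroup.zpowers (qUnit hrK)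

noncomputable instance (hrK : (r : K) ≠ 0) : Fintype (Orbits hrK) := Fintype.ofFinite _

theorem card_orbits (hrK : (r : K) ≠ 0) :
    Fintype.card (Orbits hrK) * orderOf (Fintype.card K : ZMod r) = r - 1 := by
  rw [← coe_qUnit hrK, orderOf_units, ← Nat.card_zpowers, ← Nat.card_eq_fintype_card,
    ← Subgroup.card_eq_card_quotient_mul_card_subgroup, Nat.card_units, Nat.card_zmod]

theorem exists_pow_mul_out (hrK : (r : K) ≠ 0) (u : (ZMod r)ˣ) :
    ∃ n : ℕ, n < orderOf (qUnit hrK) ∧ qUnit hrK ^ n * (QuotientGroup.mk u : Orbits hrK).out = u := by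
  classical
  obtain ⟨h, hh⟩ := QuotientGroup.mk_out_eq_mul (Subgroup.zpowers (qUnit hrK)) u
  obtain ⟨n, hn⟩ := Finset.mem_image.1 (mem_zpowers_iff_mem_range_orderOf.1 (inv_mem h.2))
  exact ⟨n, Finset.mem_range.1 hn.1, by rw [hh, hn.2, mul_comm u, inv_mul_cancel_left]⟩

variable {L : Type*} [Field L] [Algebra K L] {ζ : L} (hζ : IsPrimitiveRoot ζ r)

/-- Matrices over `K` seen over `L`. -/
abbrev up {ι κ : Type*} (X : Matrix ι κ K) : Matrix ι κ L := X.map (algebraMap K L)

variable {ι : Type*} [Fintype ι] [DecidableEq ι]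

theorem up_pow {X : Matrix ι ι K} {n : ℕ} (h : X ^ n = 1) : (up (L := L) X) ^ n = 1 := by
  show ((algebraMap K L).mapMatrix X) ^ n = 1
  rw [← map_pow, h, map_one]

theorem rootCast_ne_zero (hrK : (r : K) ≠ 0) : (r : L) ≠ 0 := by
  rw [← map_natCast (algebraMap K L)]
  exact (map_ne_zero _).2 hrK

/-- The multiplicity of the orbit `ω`. -/
noncomputable def orbitMult (hrK : (r : K) ≠ 0) (X : Matrix ι ι K) (ω : Orbits hrK) : ℕ :=
  mult hζ (up X) (ω.out : ZMod r)

theorem frob_apply (n : ℕ) (x : L) :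
    (FiniteField.frobeniusAlgHom K L ^ n) x = x ^ Fintype.card K ^ n := by
  induction n with
  | zero => simp
  | succ n ih =>
    rw [pow_succ', AlgHom.mul_apply, ih, FiniteField.coe_frobeniusAlgHom]
    show (x ^ _) ^ _ = _
    rw [← pow_mul, ← pow_succ]

theorem eigProj_frob (X : Matrix ι ι K) (n : ℕ) (u : ZMod r) :
    eigProj hζ (up X) (((Fintype.card K ^ n : ℕ) : ZMod r) * u) =
      (eigProj hζ (up X) u).map (FiniteField.frobeniusAlgHom K L ^ n).toRingHom := by
  rw [← eigProj_map hζ hζ (FiniteField.frobeniusAlgHom K L ^ n).toRingHom (Fintype.card K ^ n)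
    (frob_apply n ζ)]
  congr 1
  ext a b
  exact (AlgHom.commutes _ (X a b)).symm

theorem mult_eq_orbitMult (hrK : (r : K) ≠ 0) (X : Matrix ι ι K) (u : (ZMod r)ˣ) :
    mult hζ (up X) (u : ZMod r) = orbitMult hζ hrK X (QuotientGroup.mk u) := by
  obtain ⟨n, -, hn⟩ := exists_pow_mul_out hrK u
  conv_lhs => rw [← hn, Units.val_mul, Units.val_pow_eq_pow_val, coe_qUnit, ← Nat.cast_pow]
  rw [mult, eigProj_frob, rank_map_ringHom]
  rfl

theorem sum_orbitMult (hrK : (r : K) ≠ 0) {X : Matrix ι ι K} (hX : X ^ r = 1) :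
    mult hζ (up X) 0 + orderOf (Fintype.card K : ZMod r) * ∑ ω, orbitMult hζ hrK X ω =
      Fintype.card ι := by
  classical
  rw [← sum_mult hζ (rootCast_ne_zero (L := L) hrK) (up_pow (L := L) hX),
    ← Finset.add_sum_erase Finset.univ _ (Finset.mem_univ (0 : ZMod r))]
  congr 1
  have h1 : ∑ u ∈ Finset.univ.erase (0 : ZMod r), mult hζ (up X) u =
      ∑ v : (ZMod r)ˣ, orbitMult hζ hrK X (QuotientGroup.mk v) := by
    refine (Finset.sum_bij (fun v _ => ((v : (ZMod r)ˣ) : ZMod r)) ?_ ?_ ?_ ?_).symm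
    · intro v _; exact Finset.mem_erase.2 ⟨v.ne_zero, Finset.mem_univ _⟩
    · exact fun a _ b _ h => Units.ext h
    · exact fun b hb => ⟨Units.mk0 b (Finset.mem_erase.1 hb).1, Finset.mem_univ _, rfl⟩
    · exact fun v _ => (mult_eq_orbitMult hζ hrK X v).symm
  rw [h1, ← coe_qUnit hrK, orderOf_units, ← Nat.card_zpowers,
    ← Finset.sum_fiberwise Finset.univ (fun v : (ZMod r)ˣ => (QuotientGroup.mk v : Orbits hrK)),
    Finset.mul_sum]
  refine Finset.sum_congr rfl fun ω _ => ?_
  rw [Finset.sum_congr rfl (fun v hv => by rw [(Finset.mem_filter.1 hv).2]), Finset.sum_const, smul_eq_mul]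
  congr 1
  rw [← Fintype.card_subtype, ← Nat.card_eq_fintype_card]
  obtain ⟨g, rfl⟩ := QuotientGroup.mk_surjective ω
  refine Nat.card_congr
    { toFun := fun h => ⟨g * h, by
        rw [QuotientGroup.eq, _root_.mul_inv_rev, mul_assoc, inv_mul_cancel, mul_one]
        exact inv_mem h.2⟩
      invFun := fun v => ⟨g⁻¹ * v.1, QuotientGroup.eq.1 v.2.symm⟩
      left_inv := fun h => Subtype.ext (inv_mul_cancel_left _ _)
      right_inv := fun v => Subtype.ext (mul_inv_cancel_left _ _) }

theorem orbitMult_one (hrK : (r : K) ≠ 0) : orbitMult hζ hrK (1 : Matrix ι ι K) = 0 := by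
  funext ω
  rw [orbitMult, up, Matrix.map_one _ (map_zero _) (map_one _)]
  exact mult_one_of_ne hζ (rootCast_ne_zero (L := L) hrK) (Units.ne_zero _)

theorem eq_one_of_orbitMult (hrK : (r : K) ≠ 0) {X : Matrix ι ι K} (hX : X ^ r = 1)
    (h : orbitMult hζ hrK X = 0) : X = 1 := by
  have : up (L := L) X = 1 := eq_one_of_mult hζ (rootCast_ne_zero (L := L) hrK) (up_pow hX) fun u hu => by
    rw [← Units.val_mk0 hu, mult_eq_orbitMult hζ hrK, h]; rfl
  exact Matrix.map_injective (algebraMap K L).injective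
    (this.trans (Matrix.map_one _ (map_zero _) (map_one _)).symm)

theorem orbitMult_conj (hrK : (r : K) ≠ 0) (g : GL ι K) (X : Matrix ι ι K) :
    orbitMult hζ hrK ((g : Matrix ι ι K) * X * (↑g⁻¹ : Matrix ι ι K)) = orbitMult hζ hrK X := by
  funext ω
  let g' : GL ι L := Units.map (algebraMap K L).mapMatrix.toMonoidHom g
  have h1 : up (L := L) ((g : Matrix ι ι K) * X * (↑g⁻¹ : Matrix ι ι K)) =
      (g' : Matrix ι ι L) * up X * (↑g'⁻¹ : Matrix ι ι L) := by
    rw [up, Matrix.map_mul, Matrix.map_mul]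
    rfl
  rw [orbitMult, orbitMult, h1, mult_conj hζ g' (ω.out : ZMod r) (up X)]

theorem orbitMult_transpose (hrK : (r : K) ≠ 0) (X : Matrix ι ι K) :
    orbitMult hζ hrK Xᵀ = orbitMult hζ hrK X := by
  funext ω
  rw [orbitMult, orbitMult, up, Matrix.transpose_map]
  exact mult_transpose hζ _

theorem orbitMult_pow (hrK : (r : K) ≠ 0) {X : Matrix ι ι K} (hX : X ^ r = 1) (s : (ZMod r)ˣ)
    (ω : Orbits hrK) :
    orbitMult hζ hrK (X ^ (s : ZMod r).val) (QuotientGroup.mk s * ω) = orbitMult hζ hrK X ω := by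
  have h1 : (QuotientGroup.mk s * ω : Orbits hrK) = QuotientGroup.mk (s * ω.out) := by
    rw [QuotientGroup.mk_mul, QuotientGroup.out_eq']
  rw [h1, ← mult_eq_orbitMult, orbitMult]
  have h2 : up (L := L) (X ^ (s : ZMod r).val) = (up X) ^ (s : ZMod r).val :=
    map_pow (algebraMap K L).mapMatrix X _
  rw [h2, Units.val_mul]
  exact mult_pow hζ (up_pow (L := L) hX) s _

theorem rank_fromBlocks_diag {F : Type*} [Field F] {κ : Type*} [Fintype κ] [DecidableEq κ]
    (A : Matrix ι ι F) (B : Matrix κ κ F) :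
    (Matrix.fromBlocks A 0 0 B).rank = A.rank + B.rank := by
  let e := LinearEquiv.sumArrowLequivProdArrow ι κ F F
  have h : (Matrix.fromBlocks A 0 0 B).mulVecLin =
      e.symm.toLinearMap ∘ₗ (A.mulVecLin.prodMap B.mulVecLin) ∘ₗ e.toLinearMap := by
    refine LinearMap.ext fun v => funext fun j => ?_
    rcases j with j | j <;> simp [e, Matrix.fromBlocks_mulVec] <;> rfl
  unfold Matrix.rank
  rw [h, LinearMap.range_comp, LinearEquiv.finrank_map_eq,
    LinearMap.range_comp_of_range_eq_top _ (LinearMap.range_eq_top.2 e.surjective),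
    LinearMap.range_prodMap,
    ← Module.finrank_prod]
  exact LinearEquiv.finrank_eq
    { toFun := fun z => (⟨z.1.1, z.2.1⟩, ⟨z.1.2, z.2.2⟩)
      invFun := fun z => ⟨(z.1.1, z.2.1), z.1.2, z.2.2⟩
      map_add' := fun _ _ => rfl
      map_smul' := fun _ _ => rfl
      left_inv := fun _ => rfl
      right_inv := fun _ => rfl }

theorem orbitMult_fromBlocks (hrK : (r : K) ≠ 0) {κ : Type*} [Fintype κ] [DecidableEq κ]
    (X : Matrix ι ι K) (Y : Matrix κ κ K) :
    orbitMult hζ hrK (Matrix.fromBlocks X 0 0 Y) = orbitMult hζ hrK X + orbitMult hζ hrK Y := by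
  funext ω
  have hpow : ∀ n : ℕ, (Matrix.fromBlocks (up (L := L) X) 0 0 (up Y)) ^ n =
      Matrix.fromBlocks (up X ^ n) 0 0 (up Y ^ n) := fun n => by
    induction n with
    | zero => simp [Matrix.fromBlocks_one]
    | succ n ih => rw [pow_succ, pow_succ, pow_succ, ih, Matrix.fromBlocks_multiply]; simp
  have h : eigProj hζ (up (Matrix.fromBlocks X 0 0 Y)) (ω.out : ZMod r) =
      Matrix.fromBlocks (eigProj hζ (up X) ω.out) 0 0 (eigProj hζ (up Y) ω.out) := by
    rw [up, Matrix.fromBlocks_map, Matrix.map_zero _ (map_zero _), Matrix.map_zero _ (map_zero _)]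
    unfold eigProj
    simp only [hpow]
    ext (a | a) (b | b) <;> simp [Matrix.sum_apply]
  rw [orbitMult, mult, h, rank_fromBlocks_diag, Pi.add_apply]
  rfl

theorem orbitMult_reindex (hrK : (r : K) ≠ 0) {κ : Type*} [Fintype κ] [DecidableEq κ] (e : ι ≃ κ)
    (X : Matrix ι ι K) : orbitMult hζ hrK (Matrix.reindex e e X) = orbitMult hζ hrK X := by
  funext ω
  have h : eigProj hζ (up (Matrix.reindex e e X)) (ω.out : ZMod r) =
      Matrix.reindex e e (eigProj hζ (up X) ω.out) := by
    have hp : ∀ n : ℕ, (up (L := L) (Matrix.reindex e e X)) ^ n =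
        Matrix.reindexAlgEquiv L L e (up X ^ n) := fun n => by
      rw [map_pow]; rfl
    unfold eigProj
    simp only [hp, ← map_smul, ← map_sum]
    rfl
  rw [orbitMult, mult, h, Matrix.rank_reindex]
  rfl

theorem exists_mul_eq_of_ker {F : Type*} [Field F] {κ μ : Type*} [Fintype κ] [DecidableEq κ]
    [Fintype μ] (A : Matrix κ ι F) (P : Matrix μ ι F) (h : ∀ v, A *ᵥ v = 0 → P *ᵥ v = 0) :
    ∃ B : Matrix μ κ F, B * A = P := by
  let ψ : LinearMap.range A.mulVecLin →ₗ[F] (μ → F) :=
    ((LinearMap.ker A.mulVecLin).liftQ P.mulVecLin fun v hv => h v hv).comp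
      A.mulVecLin.quotKerEquivRange.symm.toLinearMap
  obtain ⟨φ, hφ⟩ := ψ.exists_extend
  refine ⟨LinearMap.toMatrix' φ, Matrix.ext_of_mulVec_single fun j => ?_⟩
  rw [← mulVec_mulVec, LinearMap.toMatrix'_mulVec]
  have h1 := LinearMap.congr_fun hφ (A.mulVecLin.rangeRestrict (Pi.single j 1))
  have h2 : A.mulVecLin.quotKerEquivRange.symm (A.mulVecLin.rangeRestrict (Pi.single j 1)) =
      Submodule.Quotient.mk (Pi.single j 1) := LinearMap.quotKerEquivRange_symm_apply_image _ _ _
  simp only [ψ, LinearMap.comp_apply, Submodule.subtype_apply, LinearEquiv.coe_coe, h2] at h1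
  exact h1

theorem exists_intertwiner {F : Type*} [Field F] {κ : Type*} [Fintype κ] [DecidableEq κ]
    {P : Matrix ι ι F} {P' : Matrix κ κ F} (hP : P * P = P) (hP' : P' * P' = P')
    (h : P.rank = P'.rank) :
    ∃ A : Matrix κ ι F, A * P = A ∧ P' * A = A ∧ ∀ v, A *ᵥ v = 0 → P *ᵥ v = 0 := by
  let e : LinearMap.range P.mulVecLin ≃ₗ[F] LinearMap.range P'.mulVecLin :=
    LinearEquiv.ofFinrankEq _ _ h
  let f : (ι → F) →ₗ[F] (κ → F) :=
    (LinearMap.range P'.mulVecLin).subtype ∘ₗ e.toLinearMap ∘ₗ P.mulVecLin.rangeRestrict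
  have hf : ∀ v, LinearMap.toMatrix' f *ᵥ v = f v := fun v => LinearMap.toMatrix'_mulVec f v
  refine ⟨LinearMap.toMatrix' f, Matrix.ext_of_mulVec_single fun j => ?_,
    Matrix.ext_of_mulVec_single fun j => ?_, fun v hv => ?_⟩
  · rw [← mulVec_mulVec, hf, hf]
    have h1 : P.mulVecLin.rangeRestrict (P *ᵥ Pi.single j 1) = P.mulVecLin.rangeRestrict (Pi.single j 1) :=
      Subtype.ext (show P *ᵥ (P *ᵥ Pi.single j 1) = P *ᵥ Pi.single j 1 by rw [mulVec_mulVec, hP])
    simp only [f, LinearMap.comp_apply, h1]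
  · rw [← mulVec_mulVec, hf]
    obtain ⟨w, hw⟩ : f (Pi.single j 1) ∈ LinearMap.range P'.mulVecLin := (e _).2
    rw [← hw]
    show P' *ᵥ (P' *ᵥ w) = P' *ᵥ w
    rw [mulVec_mulVec, hP']
  · rw [hf] at hv
    have h1 : e (P.mulVecLin.rangeRestrict v) = 0 := Subtype.ext hv
    exact congrArg Subtype.val (e.map_eq_zero_iff.1 h1)

theorem mem_range_of_pow_card {x : L} (hx : x ^ Fintype.card K = x) : ∃ y : K, algebraMap K L y = x := by
  classical
  by_contra hne
  push Not at hne
  have h1 : Fintype.card K < Fintype.card K := by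
    have hp : (Polynomial.X ^ Fintype.card K - Polynomial.X : Polynomial L) ≠ 0 :=
      FiniteField.X_pow_card_sub_X_ne_zero L Fintype.one_lt_card
    have hsub : insert x (Finset.univ.image (algebraMap K L)) ⊆
        (Polynomial.X ^ Fintype.card K - Polynomial.X : Polynomial L).roots.toFinset := by
      intro z hz
      rw [Multiset.mem_toFinset, Polynomial.mem_roots hp]
      rcases Finset.mem_insert.1 hz with rfl | hz
      · simp [hx]
      · obtain ⟨y, -, rfl⟩ := Finset.mem_image.1 hz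
        simp [← map_pow, FiniteField.pow_card]
    have h2 := (Finset.card_le_card hsub).trans
      ((Multiset.toFinset_card_le _).trans (Polynomial.card_roots' _))
    rw [FiniteField.X_pow_card_sub_X_natDegree_eq L Fintype.one_lt_card,
      Finset.card_insert_of_notMem (by simpa using hne),
      Finset.card_image_of_injective _ (algebraMap K L).injective, Finset.card_univ] at h2
    omega
  omega

include hζ in
/-- Similarity is decided by the orbit multiplicities. -/
theorem exists_conj_of_orbitMult (hgen : Algebra.adjoin K ({ζ} : Set L) = ⊤) (hrK : (r : K) ≠ 0)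
    {X Y : Matrix ι ι K} (hX : X ^ r = 1) (hY : Y ^ r = 1)
    (h : orbitMult hζ hrK X = orbitMult hζ hrK Y) :
    ∃ g : GL ι K, (g : Matrix ι ι K) * X = Y * (g : Matrix ι ι K) := by
  classical
  have hr0 : (r : L) ≠ 0 := rootCast_ne_zero (L := L) hrK
  let M : Matrix ι ι L := up X
  let N : Matrix ι ι L := up Y
  have hM : M ^ r = 1 := up_pow hX
  have hN : N ^ r = 1 := up_pow hY
  let i := orderOf (qUnit hrK)
  have hall : ∀ u : ZMod r, mult hζ M u = mult hζ N u := by
    have hne : ∀ u : ZMod r, u ≠ 0 → mult hζ M u = mult hζ N u := fun u hu => by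
      rw [← Units.val_mk0 hu, mult_eq_orbitMult hζ hrK, mult_eq_orbitMult hζ hrK, h]
    intro u
    by_cases hu : u = 0
    · subst hu
      have h1 := sum_orbitMult hζ hrK hX
      have h2 := sum_orbitMult hζ hrK hY
      rw [h, ← h2] at h1
      exact Nat.add_right_cancel h1
    · exact hne u hu
  have hidem : ∀ (Z : Matrix ι ι L), Z ^ r = 1 → ∀ u, eigProj hζ Z u * eigProj hζ Z u = eigProj hζ Z u :=
    fun Z hZ u => by rw [eigProj_mul_eigProj hζ hr0 hZ, if_pos rfl]
  choose A hA1 hA2 hA3 using fun u : ZMod r =>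
    exists_intertwiner (hidem M hM u) (hidem N hN u) (hall u)
  let σ : ℕ → (L →+* L) := fun n => (FiniteField.frobeniusAlgHom K L ^ n).toRingHom
  -- rational projections on the fixed spaces
  let e0 : ∀ Z : Matrix ι ι K, Matrix ι ι K := fun Z => (r : K)⁻¹ • ∑ k : ZMod r, Z ^ k.val
  have he0 : ∀ Z : Matrix ι ι K, up (L := L) (e0 Z) = eigProj hζ (up Z) 0 := fun Z => by
    show (algebraMap K L).mapMatrix (e0 Z) = _
    simp only [e0, eigProj, zero_mul, neg_zero, AddChar.map_zero_eq_one, one_smul]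
    rw [show (r : K)⁻¹ • ∑ k : ZMod r, Z ^ k.val =
      Matrix.scalar ι (r : K)⁻¹ * ∑ k : ZMod r, Z ^ k.val by
        rw [Matrix.scalar_apply, Matrix.smul_eq_diagonal_mul]]
    rw [map_mul, map_sum, Matrix.smul_eq_diagonal_mul]
    congr 1
    · ext a b
      by_cases hab : a = b <;> simp [Matrix.scalar_apply, hab]
    · exact Finset.sum_congr rfl fun k _ => map_pow _ _ _
  have he0idem : ∀ Z : Matrix ι ι K, Z ^ r = 1 → e0 Z * e0 Z = e0 Z := fun Z hZ =>
    Matrix.map_injective (algebraMap K L).injective (show up (L := L) (e0 Z * e0 Z) = up (e0 Z) by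
      rw [up, Matrix.map_mul]
      show up (e0 Z) * up (e0 Z) = up (e0 Z)
      rw [he0]
      exact hidem _ (up_pow hZ) 0)
  obtain ⟨A0, hA01, hA02, hA03⟩ := exists_intertwiner (he0idem X hX) (he0idem Y hY) (by
    rw [← rank_map_ringHom (algebraMap K L), ← rank_map_ringHom (algebraMap K L) (e0 Y)]
    show (up (e0 X)).rank = (up (e0 Y)).rank
    rw [he0, he0]
    exact hall 0)
  have hσP : ∀ (Z : Matrix ι ι K) (n : ℕ) (u : (ZMod r)ˣ),
      (eigProj hζ (up Z) (u : ZMod r)).map (σ n) =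
        eigProj hζ (up Z) ((qUnit hrK ^ n * u : (ZMod r)ˣ) : ZMod r) := fun Z n u => by
    rw [Units.val_mul, Units.val_pow_eq_pow_val, coe_qUnit, ← Nat.cast_pow, eigProj_frob]
  -- the components
  let w : Orbits hrK × Fin i → ZMod r := fun p => ((qUnit hrK ^ p.2.val * p.1.out : (ZMod r)ˣ) : ZMod r)
  let T : Orbits hrK × Fin i → Matrix ι ι L := fun p => (A (p.1.out : ZMod r)).map (σ p.2.val)
  have hTl : ∀ p, eigProj hζ N (w p) * T p = T p := fun p => by
    show eigProj hζ N _ * (A _).map (σ _) = (A _).map (σ _)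
    rw [← hσP Y, ← Matrix.map_mul, hA2]
  have hTr : ∀ p, T p * eigProj hζ M (w p) = T p := fun p => by
    show (A _).map (σ _) * eigProj hζ M _ = (A _).map (σ _)
    rw [← hσP X, ← Matrix.map_mul, hA1]
  have h0l : eigProj hζ N 0 * up (L := L) A0 = up A0 := by
    rw [← he0, up, ← Matrix.map_mul, hA02]
  have h0r : up (L := L) A0 * eigProj hζ M 0 = up A0 := by
    rw [← he0, up, ← Matrix.map_mul, hA01]
  let G : Matrix ι ι L := up A0 + ∑ p, T p
  have hint : ∀ (B : Matrix ι ι L) (u : ZMod r), eigProj hζ N u * B = B → B * eigProj hζ M u = B →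
      B * M = N * B := fun B u hl hr' => by
    calc B * M = B * eigProj hζ M u * M := by rw [hr']
      _ = B * (M * eigProj hζ M u) := by rw [Matrix.mul_assoc, eigProj_comm]
      _ = rootChar hζ u • B := by rw [mul_eigProj hζ hM, Matrix.mul_smul, hr']
      _ = N * (eigProj hζ N u * B) := by rw [← Matrix.mul_assoc, mul_eigProj hζ hN, Matrix.smul_mul, hl]
      _ = N * B := by rw [hl]
  have hGM : G * M = N * G := by
    simp only [G, add_mul, mul_add, Finset.sum_mul, Finset.mul_sum]
    rw [hint _ 0 h0l h0r]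
    congr 1
    exact Finset.sum_congr rfl fun p _ => hint _ _ (hTl p) (hTr p)
  have hw0 : ∀ p, w p ≠ 0 := fun p => Units.ne_zero _
  have hwinj : Function.Injective w := by
    rintro ⟨ω, n⟩ ⟨ω', n'⟩ e
    have e' := congrArg (fun z => z) (Units.ext e : qUnit hrK ^ n.val * ω.out = qUnit hrK ^ n'.val * ω'.out)
    have hω : ω = ω' := by
      have e'' := congrArg (QuotientGroup.mk : (ZMod r)ˣ → Orbits hrK) e'
      have hq : ∀ k : ℕ, (QuotientGroup.mk (qUnit hrK ^ k) : Orbits hrK) = 1 := fun k =>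
        (QuotientGroup.eq_one_iff _).2 (pow_mem (Subgroup.mem_zpowers _) k)
      simpa [QuotientGroup.mk_mul, hq, QuotientGroup.out_eq'] using e''
    subst hω
    exact Prod.ext rfl (Fin.ext (pow_injOn_Iio_orderOf (Set.mem_Iio.2 n.isLt) (Set.mem_Iio.2 n'.isLt)
      (mul_right_cancel e')))
  have horth : ∀ (B : Matrix ι ι L) (u v : ZMod r), eigProj hζ N u * B = B → u ≠ v →
      eigProj hζ N v * B = 0 := fun B u v hl huv => by
    rw [← hl, ← Matrix.mul_assoc, eigProj_mul_eigProj hζ hr0 hN, if_neg huv, Matrix.zero_mul]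
  have hker : ∀ v, G *ᵥ v = 0 → v = 0 := fun v hv => by
    have h0 : eigProj hζ M 0 *ᵥ v = 0 := by
      have h1 : eigProj hζ N 0 * G = up A0 := by
        rw [show G = up A0 + ∑ p, T p from rfl, mul_add, Finset.mul_sum, h0l,
          Finset.sum_eq_zero (fun p _ => horth _ _ _ (hTl p) (hw0 p)), add_zero]
      have h2 : up (L := L) A0 *ᵥ v = 0 := by rw [← h1, ← mulVec_mulVec, hv, mulVec_zero]
      obtain ⟨B, hB⟩ := exists_mul_eq_of_ker A0 (e0 X) hA03
      rw [← he0, ← hB, up, Matrix.map_mul, ← mulVec_mulVec]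
      show up B *ᵥ (up A0 *ᵥ v) = 0
      rw [h2, mulVec_zero]
    have hp : ∀ p, eigProj hζ M (w p) *ᵥ v = 0 := fun p => by
      have h1 : eigProj hζ N (w p) * G = T p := by
        rw [show G = up A0 + ∑ p, T p from rfl, mul_add, Finset.mul_sum,
          horth _ _ _ h0l (hw0 p).symm, zero_add,
          Finset.sum_eq_single p (fun p' _ hp' => horth _ _ _ (hTl p') (hwinj.ne hp'))
            (fun hp' => absurd (Finset.mem_univ p) hp')]
        exact hTl p
      have h2 : T p *ᵥ v = 0 := by rw [← h1, ← mulVec_mulVec, hv, mulVec_zero]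
      let u0 : ZMod r := (p.1.out : ZMod r)
      obtain ⟨B, hB⟩ := exists_mul_eq_of_ker (A u0) (eigProj hζ M u0) (hA3 u0)
      show eigProj hζ M _ *ᵥ v = 0
      rw [← hσP X, ← hB, Matrix.map_mul, ← mulVec_mulVec]
      exact (congrArg _ h2).trans (mulVec_zero _)
    calc v = (∑ u, eigProj hζ M u) *ᵥ v := by rw [sum_eigProj hζ hr0, one_mulVec]
      _ = 0 := by
        rw [Matrix.sum_mulVec]
        refine Finset.sum_eq_zero fun u _ => ?_
        by_cases hu : u = 0
        · rw [hu]; exact h0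
        · obtain ⟨n, hn, hnu⟩ := exists_pow_mul_out hrK (Units.mk0 u hu)
          have := hp (QuotientGroup.mk (Units.mk0 u hu), ⟨n, hn⟩)
          simp only [w, hnu, Units.val_mk0] at this
          exact this
  have hfix : G.map (σ 1) = G := by
    have hσi : FiniteField.frobeniusAlgHom K L ^ i = 1 := by
      refine AlgHom.ext_of_adjoin_eq_top hgen ?_
      rintro x rfl
      rw [frob_apply, AlgHom.one_apply]
      have hi : ((Fintype.card K ^ i : ℕ) : ZMod r) = 1 := by
        rw [Nat.cast_pow, ← coe_qUnit hrK, ← Units.val_pow_eq_pow_val, pow_orderOf_eq_one, Units.val_one]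
      rw [← rootChar_pow_one hζ, rootChar_pow, hi, one_mul]
    show G.map _ = _
    simp only [G]
    rw [show (up (L := L) A0 + ∑ p, T p).map (σ 1) = (σ 1).mapMatrix (up (L := L) A0 + ∑ p, T p) from rfl,
      map_add, map_sum]
    congr 1
    · ext a b
      exact (FiniteField.frobeniusAlgHom K L ^ 1).commutes _
    · have hi0 : NeZero i := ⟨(orderOf_pos _).ne'⟩
      refine Fintype.sum_equiv (Equiv.prodCongr (Equiv.refl _) (Equiv.addRight (1 : Fin i))) _ _ fun p => ?_
      ext a b
      show σ 1 (σ p.2.val _) = σ (p.2 + 1).val _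
      have key : ∀ m : ℕ, FiniteField.frobeniusAlgHom K L ^ m = FiniteField.frobeniusAlgHom K L ^ (m % i) :=
        fun m => by conv_lhs => rw [← Nat.mod_add_div m i, pow_add, pow_mul, hσi, one_pow, mul_one]
      show (FiniteField.frobeniusAlgHom K L ^ 1) ((FiniteField.frobeniusAlgHom K L ^ p.2.val) _) = _
      rw [← AlgHom.mul_apply, ← pow_add, key (1 + p.2.val)]
      congr 2
      rw [Fin.val_add, Nat.add_comm 1, Nat.add_mod p.2.val 1, Fin.val_one']
      simp [Nat.mod_eq_of_lt p.2.isLt]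
  have hrat : ∀ a b, ∃ y : K, algebraMap K L y = G a b := fun a b => by
    refine mem_range_of_pow_card ?_
    have h1 := congrFun (congrFun hfix a) b
    simp only [Matrix.map_apply] at h1
    exact ((frob_apply (K := K) 1 _).trans (by rw [pow_one])).symm.trans h1
  choose g hg using hrat
  have hgG : up (L := L) (Matrix.of g) = G := by ext a b; exact hg a b
  have hdet : (Matrix.of g).det ≠ 0 := fun h0 => by
    have h1 : G.det = 0 := by
      rw [← hgG, up, ← RingHom.mapMatrix_apply, ← RingHom.map_det, h0, map_zero]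
    obtain ⟨v, hv0, hv⟩ := Matrix.exists_mulVec_eq_zero_iff.2 h1
    exact hv0 (hker v hv)
  refine ⟨Matrix.GeneralLinearGroup.mkOfDetNeZero _ hdet, ?_⟩
  refine Matrix.map_injective (algebraMap K L).injective ?_
  show (Matrix.of g * X).map _ = (Y * Matrix.of g).map _
  rw [Matrix.map_mul, Matrix.map_mul]
  show up _ * up X = up Y * up _
  rw [hgG]
  exact hGM

end CfsgLib.PrimeClasses
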