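import Cfsg.Agent.Lib.PrimeClasses.QuadSum
import Cfsg.Agent.Lib.PrimeClasses.Duality
import Cfsg.Agent.Lib.IsomConj.Classical
import Cfsg.Agent.Lib.ClassicalGroups.OrthCard

/-!
Multiplicities of elements of prime order of finite orthogonal groups: symmetry, realisation, and the
type of a space filled by given orbits.
-/

set_option autoImplicit false
set_option linter.unusedSectionVars false

namespace CfsgLib.PrimeClasses

open Matrix CfsgLib.ClassicalGroups

variable {F : Type*} [Field F] [Fintype F] {r : ℕ} [hr : Fact r.Prime]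

/-- A quadratic pair is a non-degenerate quadratic form. -/
theorem exists_quadraticForm {κ : Type} [Fintype κ] {Q : (κ → F) → F}
    {B : (κ → F) →ₗ[F] (κ → F) →ₗ[F] F} (h : IsQuadPair Q B) :
    ∃ QF : QuadraticForm F (κ → F), ⇑QF = Q ∧ QF.polarBilin.Nondegenerate := by
  let QF : QuadraticForm F (κ → F) :=
    { toFun := Q
      toFun_smul := fun c v => by rw [h.smul, smul_eq_mul]
      exists_companion' := ⟨B, h.add⟩ }
  have hp : ∀ u v, QF.polarBilin u v = B u v := fun u v => by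
    show Q (u + v) - Q u - Q v = _
    rw [h.add]
    ring
  refine ⟨QF, rfl, fun u hu => h.nondeg u fun v => ?_, fun u hu => h.nondeg u fun v => ?_⟩
  · rw [← hp]; exact hu v
  · rw [← hp, QuadraticMap.polarBilin_apply_apply, QuadraticMap.polar_comm]; exact hu v

/-- An anisotropic binary form exists over every finite field. -/
theorem exists_anisotropic_binary :
    ∃ a c : F, ∀ z₁ z₂ : F, z₁ ^ 2 + a * z₁ * z₂ + c * z₂ ^ 2 = 0 → z₁ = 0 ∧ z₂ = 0 := by
  have hns : ¬ Function.Surjective fun x : F => x ^ 2 + x := fun h => by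
    have h1 := (Finite.injective_iff_surjective.2 h) (show (fun x : F => x ^ 2 + x) 0 = (fun x : F => x ^ 2 + x) (-1) by
      show (0 : F) ^ 2 + 0 = (-1) ^ 2 + -1
      ring)
    exact one_ne_zero (neg_eq_zero.1 h1.symm)
  obtain ⟨d, hd⟩ := not_forall.1 hns
  refine ⟨1, -d, fun z₁ z₂ hz => ?_⟩
  have hz2 : z₂ = 0 := by
    by_contra h0
    refine hd ⟨z₁ / z₂, ?_⟩
    show (z₁ / z₂) ^ 2 + z₁ / z₂ = d
    field_simp
    linear_combination hz
  subst hz2
  exact ⟨by simpa using hz, rfl⟩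

variable {L : Type*} [Field L] [Algebra F L] {ζ : L} (hζ : IsPrimitiveRoot ζ r)
variable {κ μ ν : Type} [Fintype κ] [DecidableEq κ] [Fintype μ] [DecidableEq μ] [Fintype ν] [DecidableEq ν]

/-- The tuples realised by isometries of a quadratic function. -/
def ORealised (hrK : (r : F) ≠ 0) (Q : (κ → F) → F) (c : Orbits hrK → ℕ) : Prop :=
  ∃ X : Matrix κ κ F, X ^ r = 1 ∧ (∀ v, Q (X *ᵥ v) = Q v) ∧ orbitMult hζ hrK X = c

theorem O_realised_zero (hrK : (r : F) ≠ 0) (Q : (κ → F) → F) : ORealised hζ hrK Q 0 :=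
  ⟨1, one_pow r, fun v => by rw [one_mulVec], orbitMult_one hζ hrK⟩

/-- Moving an endomorphism along a linear equivalence of coordinate spaces. -/
theorem exists_transport (hrK : (r : F) ≠ 0) (e : (κ → F) ≃ₗ[F] (μ → F)) {X : Matrix κ κ F}
    (hX : X ^ r = 1) :
    ∃ Y : Matrix μ μ F, Y ^ r = 1 ∧ orbitMult hζ hrK Y = orbitMult hζ hrK X ∧
      ∀ v, Y *ᵥ e v = e (X *ᵥ v) := by
  have hcard : Fintype.card κ = Fintype.card μ := by
    simpa [Module.finrank_fintype_fun_eq_card] using e.finrank_eq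
  let σ : κ ≃ μ := Fintype.equivOfCardEq hcard
  let A : Matrix μ κ F := LinearMap.toMatrix' e.toLinearMap
  let A' : Matrix κ μ F := LinearMap.toMatrix' e.symm.toLinearMap
  have hA : A * A' = 1 := by
    simp only [A, A', ← LinearMap.toMatrix'_comp, LinearEquiv.comp_coe, LinearEquiv.symm_trans_self,
      LinearEquiv.refl_toLinearMap, LinearMap.toMatrix'_id]
  have hA' : A' * A = 1 := by
    simp only [A, A', ← LinearMap.toMatrix'_comp, LinearEquiv.comp_coe, LinearEquiv.self_trans_symm,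
      LinearEquiv.refl_toLinearMap, LinearMap.toMatrix'_id]
  let g : GL μ F := ⟨A.submatrix id σ.symm, A'.submatrix σ.symm id,
    by rw [Matrix.submatrix_mul_equiv, hA, Matrix.submatrix_id_id],
    by rw [← Matrix.submatrix_mul _ _ σ.symm id σ.symm Function.bijective_id, hA',
      Matrix.submatrix_one_equiv]⟩
  have hprod : (g : Matrix μ μ F) * Matrix.reindex σ σ X * (↑g⁻¹ : Matrix μ μ F) = A * X * A' := by
    show A.submatrix id σ.symm * X.submatrix σ.symm σ.symm * A'.submatrix σ.symm id = _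
    rw [Matrix.submatrix_mul_equiv, Matrix.submatrix_mul_equiv, Matrix.submatrix_id_id]
  refine ⟨(g : Matrix μ μ F) * Matrix.reindex σ σ X * (↑g⁻¹ : Matrix μ μ F), ?_, ?_, fun v => ?_⟩
  · rw [Units.conj_pow, reindex_pow, hX]
    rw [show Matrix.reindex σ σ (1 : Matrix κ κ F) = 1 from map_one (Matrix.reindexAlgEquiv F F σ),
      mul_one, Units.mul_inv]
  · rw [orbitMult_conj, orbitMult_reindex]
  · rw [hprod, show e v = A *ᵥ v from (LinearMap.toMatrix'_mulVec _ _).symm, mulVec_mulVec,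
      Matrix.mul_assoc, hA', Matrix.mul_one, ← mulVec_mulVec]
    exact LinearMap.toMatrix'_mulVec _ _

theorem ORealised.of_qEquiv {hrK : (r : F) ≠ 0} {Q : (κ → F) → F} {Q' : (μ → F) → F}
    {c : Orbits hrK → ℕ} (h : ORealised hζ hrK Q c) (he : QEquiv Q Q') : ORealised hζ hrK Q' c := by
  obtain ⟨X, hX, hXQ, rfl⟩ := h
  obtain ⟨e, he⟩ := he
  obtain ⟨Y, hY, hYc, hYe⟩ := exists_transport hζ hrK e hX
  refine ⟨Y, hY, fun w => ?_, hYc⟩
  obtain ⟨v, rfl⟩ := e.surjective w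
  rw [hYe, he, he, hXQ]

theorem O_realised_sum {hrK : (r : F) ≠ 0} {Q : (κ → F) → F} {Q' : (μ → F) → F}
    {c d : Orbits hrK → ℕ} (h : ORealised hζ hrK Q c) (h' : ORealised hζ hrK Q' d) :
    ORealised hζ hrK (qSum Q Q') (c + d) := by
  obtain ⟨X, hX, hXQ, rfl⟩ := h
  obtain ⟨Y, hY, hYQ, rfl⟩ := h'
  refine ⟨Matrix.fromBlocks X 0 0 Y, ?_, fun v => ?_, orbitMult_fromBlocks hζ hrK X Y⟩
  · rw [fromBlocks_pow, hX, hY, Matrix.fromBlocks_one]
  · simp only [qSum, Matrix.fromBlocks_mulVec, Sum.elim_comp_inl, Sum.elim_comp_inr, zero_mulVec,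
      add_zero, zero_add, hXQ, hYQ]

theorem ORealised.pad {hrK : (r : F) ≠ 0} {Q : (κ → F) → F} {c : Orbits hrK → ℕ}
    (h : ORealised hζ hrK Q c) (Q' : (μ → F) → F) {T : (ν → F) → F} (he : QEquiv (qSum Q Q') T) :
    ORealised hζ hrK T c := by
  have := (O_realised_sum hζ h (O_realised_zero hζ hrK Q')).of_qEquiv hζ he
  rwa [add_zero] at this

/-- Isometries have symmetric multiplicities. -/
theorem O_isSym (hrK : (r : F) ≠ 0) {Q : (κ → F) → F} {B : (κ → F) →ₗ[F] (κ → F) →ₗ[F] F}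
    (hQ : IsQuadPair Q B) {X : Matrix κ κ F} (hX : X ^ r = 1) (hXQ : ∀ v, Q (X *ᵥ v) = Q v) :
    IsSym (orb hrK (-1)) (orbitMult hζ hrK X) := by
  obtain ⟨QF, rfl, hnd⟩ := exists_quadraticForm hQ
  refine isSym_of_isometry hζ hrK hX (B := LinearMap.BilinForm.toMatrix' QF.polarBilin) ?_ ?_
  · rw [isUnit_iff_ne_zero, ← LinearMap.BilinForm.nondegenerate_toBilin'_iff_det_ne_zero,
      Matrix.toBilin'_toMatrix']
    exact hnd
  · simpa using (IsomConj.toMatrix'_preserved QF.polarBilin X 1).2 fun u v => by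
      simp only [one_mulVec, QuadraticMap.polarBilin_apply_apply, QuadraticMap.polar, ← mulVec_add, hXQ]

/-- An element filling the space fixes no vector. -/
theorem eq_zero_of_fixed (hrK : (r : F) ≠ 0) {X : Matrix κ κ F} (hX : X ^ r = 1)
    (hfull : orderOf (Fintype.card F : ZMod r) * ∑ ω, orbitMult hζ hrK X ω = Fintype.card κ)
    {v : κ → F} (hv : X *ᵥ v = v) : v = 0 := by
  have h0 : mult hζ (up (L := L) X) 0 = 0 := by
    have := sum_orbitMult hζ hrK hX
    omega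
  have hP : eigProj hζ (up (L := L) X) 0 = 0 := by
    have h1 : LinearMap.range (eigProj hζ (up (L := L) X) 0).mulVecLin = ⊥ :=
      Submodule.finrank_eq_zero.1 h0
    rw [LinearMap.range_eq_bot] at h1
    exact Matrix.ext_of_mulVec_single fun j => by rw [zero_mulVec]; exact LinearMap.congr_fun h1 _
  let N : Matrix κ Unit L := Matrix.of fun k _ => algebraMap F L (v k)
  have hN : up (L := L) X * N = rootChar hζ (0 : ZMod r) • N := by
    rw [AddChar.map_zero_eq_one, one_smul]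
    ext k u
    simp only [Matrix.mul_apply, N, Matrix.of_apply, Matrix.map_apply, ← map_mul, ← map_sum]
    exact congrArg _ (congrFun hv k)
  have h2 := eigProj_mul_of_eigen hζ (rootCast_ne_zero (L := L) hrK) hN 0
  rw [hP, Matrix.zero_mul, if_pos rfl] at h2
  funext k
  exact (algebraMap F L).injective ((congrFun (congrFun h2.symm k) ()).trans (map_zero _).symm)

/-- The same orbits cannot fill spaces with complements of different types inside one space. -/
theorem not_both_full (hgen : Algebra.adjoin F ({ζ} : Set L) = ⊤) (hr2 : r ≠ 2) (hrK : (r : F) ≠ 0)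
    {κ' ν' : Type} [Fintype κ'] [DecidableEq κ'] [Fintype ν'] [DecidableEq ν']
    {Q₁ : (κ → F) → F} {Q₂ : (κ' → F) → F} {R₁ : (ν → F) → F} {R₂ : (ν' → F) → F}
    {T : (μ → F) → F} {B : (μ → F) →ₗ[F] (μ → F) →ₗ[F] F} (hT : IsQuadPair T B)
    (he₁ : QEquiv (qSum Q₁ R₁) T) (he₂ : QEquiv (qSum Q₂ R₂) T) (hQ₁ : Q₁ 0 = 0) (hQ₂ : Q₂ 0 = 0)
    (hR₁ : ∀ v, R₁ v = 0 → v = 0) (hR₂ : ∃ v, v ≠ 0 ∧ R₂ v = 0) {c : Orbits hrK → ℕ}
    (h₁ : ORealised hζ hrK Q₁ c) (h₂ : ORealised hζ hrK Q₂ c)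
    (hfull : orderOf (Fintype.card F : ZMod r) * ∑ ω, c ω = Fintype.card κ) : False := by
  obtain ⟨X, hX, hXQ, hXc⟩ := h₁
  obtain ⟨X', hX', hXQ', hXc'⟩ := h₂
  obtain ⟨e₁, he₁⟩ := he₁
  obtain ⟨e₂, he₂⟩ := he₂
  obtain ⟨Y, hY, hYc, hYe⟩ := exists_transport hζ hrK e₁ (X := Matrix.fromBlocks X 0 0 1) (by
    rw [fromBlocks_pow, hX, one_pow, Matrix.fromBlocks_one])
  obtain ⟨Y', hY', hYc', hYe'⟩ := exists_transport hζ hrK e₂ (X := Matrix.fromBlocks X' 0 0 1) (by
    rw [fromBlocks_pow, hX', one_pow, Matrix.fromBlocks_one])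
  rw [orbitMult_fromBlocks, orbitMult_one, add_zero] at hYc hYc'
  have hYQ : ∀ w, T (Y *ᵥ w) = T w := fun w => by
    obtain ⟨v, rfl⟩ := e₁.surjective w
    rw [hYe, he₁, he₁]
    simp [qSum, Matrix.fromBlocks_mulVec, hXQ]
  have hYQ' : ∀ w, T (Y' *ᵥ w) = T w := fun w => by
    obtain ⟨v, rfl⟩ := e₂.surjective w
    rw [hYe', he₂, he₂]
    simp [qSum, Matrix.fromBlocks_mulVec, hXQ']
  obtain ⟨g, hg⟩ := exists_conj_of_orbitMult hζ hgen hrK hY hY' (by rw [hYc, hYc', hXc, hXc'])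
  obtain ⟨QF, rfl, hnd⟩ := exists_quadraticForm hT
  obtain ⟨x, hx⟩ : ∃ x : GL μ F, (x : Matrix μ μ F) = Y :=
    ⟨(IsUnit.of_pow_eq_one hY hr.out.ne_zero).unit, IsUnit.unit_spec _⟩
  obtain ⟨y, hy⟩ : ∃ y : GL μ F, (y : Matrix μ μ F) = Y' :=
    ⟨(IsUnit.of_pow_eq_one hY' hr.out.ne_zero).unit, IsUnit.unit_spec _⟩
  subst hx hy
  have hc := IsomConj.O_isConj_of_similar QF hnd (hr.out.odd_of_ne_two hr2) hrK
    (⟨x, fun u _ => hYQ u⟩ : Cfsg.isometryGroup F ⇑QF) ⟨y, fun u _ => hYQ' u⟩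
    (Subtype.ext (Units.ext (by simpa using hY)))
    (isConj_iff.2 ⟨g, mul_inv_eq_iff_eq_mul.2 (Units.ext hg)⟩)
  obtain ⟨W, hW⟩ := isConj_iff.1 hc
  rw [mul_inv_eq_iff_eq_mul] at hW
  have hW' : ((W : GL μ F) : Matrix μ μ F) * (x : Matrix μ μ F) =
      (y : Matrix μ μ F) * ((W : GL μ F) : Matrix μ μ F) :=
    congrArg (fun z : Cfsg.isometryGroup F ⇑QF => ((z : GL μ F) : Matrix μ μ F)) hW
  obtain ⟨z, hz0, hz⟩ := hR₂
  set w : κ' ⊕ ν' → F := Sum.elim 0 z with hw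
  have hw0 : w ≠ 0 := fun h => hz0 (funext fun k => congrFun h (.inr k))
  have hwT : QF (e₂ w) = 0 := by rw [he₂]; simp [qSum, hw, hQ₂, hz]
  have hwfix : (y : Matrix μ μ F) *ᵥ e₂ w = e₂ w := by
    rw [hYe']
    congr 1
    simp [hw, Matrix.fromBlocks_mulVec]
  let Wi : Matrix μ μ F := (((W⁻¹ : Cfsg.isometryGroup F ⇑QF) : GL μ F) : Matrix μ μ F)
  have hWWi : ((W : GL μ F) : Matrix μ μ F) * Wi = 1 := by simp [Wi]
  have hWiW : Wi * ((W : GL μ F) : Matrix μ μ F) = 1 := by simp [Wi]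
  obtain ⟨v, hv⟩ := e₁.surjective (Wi *ᵥ e₂ w)
  have hvT : QF (e₁ v) = 0 := by
    rw [hv]
    exact ((W⁻¹).2 (e₂ w) (e₂ w)).trans hwT
  have hvfix : (x : Matrix μ μ F) *ᵥ e₁ v = e₁ v := by
    rw [hv, mulVec_mulVec, show (x : Matrix μ μ F) * Wi = Wi * (y : Matrix μ μ F) from
      calc (x : Matrix μ μ F) * Wi = Wi * (((W : GL μ F) : Matrix μ μ F) * (x : Matrix μ μ F)) * Wi := by
            rw [← Matrix.mul_assoc Wi, hWiW, one_mul]
        _ = _ := by rw [hW', Matrix.mul_assoc, Matrix.mul_assoc, hWWi, mul_one],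
      ← mulVec_mulVec, hwfix]
  rw [hYe, e₁.injective.eq_iff, Matrix.fromBlocks_mulVec] at hvfix
  have hl : v ∘ Sum.inl = 0 := eq_zero_of_fixed hζ hrK hX (by rw [hXc]; exact hfull)
    (funext fun k => by simpa using congrFun hvfix (.inl k))
  rw [he₁, qSum, hl, hQ₁, zero_add] at hvT
  have hr' : v ∘ Sum.inr = 0 := hR₁ _ hvT
  have hv0 : v = 0 := funext fun k => by
    rcases k with k | k
    exacts [congrFun hl k, congrFun hr' k]
  refine hw0 (e₂.injective ?_)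
  rw [map_zero, ← one_mulVec (e₂ w), ← hWWi, ← mulVec_mulVec, ← hv, hv0, map_zero, mulVec_zero]

end CfsgLib.PrimeClasses
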