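import Cfsg.Agent.Lib.ClassicalGroups.BinaryForm
import Cfsg.Prelude.Def_Classical

/-!
Orthogonal sums of the standard quadratic forms.
-/

set_option autoImplicit false
set_option linter.unusedSectionVars false

namespace CfsgLib.PrimeClasses

variable {F : Type*} [Field F]

/-- The orthogonal sum of two quadratic functions. -/
def qSum {κ μ : Type*} (Q : (κ → F) → F) (Q' : (μ → F) → F) (v : κ ⊕ μ → F) : F :=
  Q (v ∘ Sum.inl) + Q' (v ∘ Sum.inr)

/-- A linear equivalence carrying one quadratic function to the other. -/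
def QEquiv {κ μ : Type*} (Q : (κ → F) → F) (Q' : (μ → F) → F) : Prop :=
  ∃ e : (κ → F) ≃ₗ[F] (μ → F), ∀ v, Q' (e v) = Q v

variable {κ μ ν κ' μ' : Type*}

theorem QEquiv.refl (Q : (κ → F) → F) : QEquiv Q Q := ⟨LinearEquiv.refl F _, fun _ => rfl⟩

theorem QEquiv.symm {Q : (κ → F) → F} {Q' : (μ → F) → F} (h : QEquiv Q Q') : QEquiv Q' Q := by
  obtain ⟨e, he⟩ := h
  exact ⟨e.symm, fun v => by rw [← he, e.apply_symm_apply]⟩

theorem QEquiv.trans {Q : (κ → F) → F} {Q' : (μ → F) → F} {Q'' : (ν → F) → F} (h : QEquiv Q Q')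
    (h' : QEquiv Q' Q'') : QEquiv Q Q'' := by
  obtain ⟨e, he⟩ := h
  obtain ⟨e', he'⟩ := h'
  exact ⟨e.trans e', fun v => by rw [LinearEquiv.trans_apply, he', he]⟩

/-- Reindexing of coordinates. -/
theorem QEquiv.of_equiv {Q : (κ → F) → F} {Q' : (μ → F) → F} (σ : μ ≃ κ)
    (h : ∀ v : κ → F, Q' (v ∘ σ) = Q v) : QEquiv Q Q' :=
  ⟨LinearEquiv.funCongrLeft F F σ, h⟩

theorem QEquiv.qSum_congr {Q₁ : (κ → F) → F} {Q₁' : (κ' → F) → F} {Q₂ : (μ → F) → F}
    {Q₂' : (μ' → F) → F} (h₁ : QEquiv Q₁ Q₁') (h₂ : QEquiv Q₂ Q₂') :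
    QEquiv (qSum Q₁ Q₂) (qSum Q₁' Q₂') := by
  obtain ⟨e₁, h₁⟩ := h₁
  obtain ⟨e₂, h₂⟩ := h₂
  refine ⟨(LinearEquiv.sumArrowLequivProdArrow κ μ F F).trans ((e₁.prodCongr e₂).trans
    (LinearEquiv.sumArrowLequivProdArrow κ' μ' F F).symm), fun v => ?_⟩
  simp only [qSum]
  rw [← h₁ (v ∘ Sum.inl), ← h₂ (v ∘ Sum.inr)]
  rfl

theorem qSum_comm (Q : (κ → F) → F) (Q' : (μ → F) → F) : QEquiv (qSum Q Q') (qSum Q' Q) :=
  QEquiv.of_equiv (Equiv.sumComm μ κ) fun v => by
    simp only [qSum]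
    rw [add_comm]
    rfl

theorem qSum_assoc (Q₁ : (κ → F) → F) (Q₂ : (μ → F) → F) (Q₃ : (ν → F) → F) :
    QEquiv (qSum (qSum Q₁ Q₂) Q₃) (qSum Q₁ (qSum Q₂ Q₃)) :=
  QEquiv.of_equiv (Equiv.sumAssoc κ μ ν).symm fun v => by
    simp only [qSum]
    rw [← add_assoc]
    rfl

/-- Regrouping two families of pairs. -/
def pairEquiv (a b : ℕ) : (Fin a ⊕ Fin a) ⊕ (Fin b ⊕ Fin b) ≃ Fin (a + b) ⊕ Fin (a + b) :=
  (Equiv.sumSumSumComm _ _ _ _).trans (Equiv.sumCongr finSumFinEquiv finSumFinEquiv)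

theorem plus_add_plus (a b : ℕ) :
    QEquiv (qSum (Cfsg.quadFormPlus a F) (Cfsg.quadFormPlus b F)) (Cfsg.quadFormPlus (a + b) F) :=
  QEquiv.of_equiv (pairEquiv a b).symm fun v => by
    simp [qSum, Cfsg.quadFormPlus, pairEquiv, Fin.sum_univ_add]

theorem plus_add_minus (a b : ℕ) (a₀ c₀ : F) :
    QEquiv (qSum (Cfsg.quadFormPlus a F) (Cfsg.quadFormMinus b F a₀ c₀))
      (Cfsg.quadFormMinus (a + b) F a₀ c₀) :=
  QEquiv.of_equiv (((Equiv.sumAssoc _ _ _).symm.trans
    (Equiv.sumCongr (pairEquiv a b) (Equiv.refl (Fin 2)))).symm) fun v => by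
    simp [qSum, Cfsg.quadFormPlus, Cfsg.quadFormMinus, pairEquiv, Fin.sum_univ_add, add_assoc]

theorem plus_add_odd (a b : ℕ) :
    QEquiv (qSum (Cfsg.quadFormPlus a F) (Cfsg.quadFormOdd b F)) (Cfsg.quadFormOdd (a + b) F) :=
  QEquiv.of_equiv ((((Equiv.sumAssoc _ _ _).symm.trans
    (Equiv.sumCongr (Equiv.sumComm (Fin a ⊕ Fin a) Unit) (Equiv.refl _))).trans
    ((Equiv.sumAssoc _ _ _).trans (Equiv.sumCongr (Equiv.refl Unit) (pairEquiv a b)))).symm) fun v => by
    simp [qSum, Cfsg.quadFormPlus, Cfsg.quadFormOdd, pairEquiv, Fin.sum_univ_add]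
    ring

variable [Fintype F]

set_option maxHeartbeats 2000000 in
open CfsgLib.ClassicalGroups in
/-- Two elliptic planes form a hyperbolic space. -/
theorem minus_add_minus {a c : F}
    (hac : ∀ z₁ z₂ : F, z₁ ^ 2 + a * z₁ * z₂ + c * z₂ ^ 2 = 0 → z₁ = 0 ∧ z₂ = 0) :
    QEquiv (qSum (Cfsg.quadFormMinus 0 F a c) (Cfsg.quadFormMinus 0 F a c)) (Cfsg.quadFormPlus 2 F) := by
  classical
  have hd := binDisc_ne_zero hac
  have hc0 : c ≠ 0 := fun h => one_ne_zero (hac 0 1 (by rw [h]; ring)).2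
  obtain ⟨α, hα⟩ := exists_binQ_eq a c (-1) hd
  let β : F × F := (-1, a / c)
  have hβ : binQ a c β = 1 := by simp only [binQ, β]; field_simp; ring
  have hβ1 : β ≠ (1, 0) := fun h => by
    simp only [β, Prod.mk.injEq] at h
    have ha : a = 0 := by simpa [hc0] using h.2
    apply hd
    rw [ha]
    linear_combination 2 * c * h.1
  let α' : F × F := binMul a c α β
  have hne : α ≠ α' := by
    intro h
    apply hβ1
    have h1 : binMul a c α ((β.1 - 1, β.2) : F × F) = (0, 0) := by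
      have e1 : α.1 = (binMul a c α β).1 := congrArg Prod.fst h
      have e2 : α.2 = (binMul a c α β).2 := congrArg Prod.snd h
      simp only [binMul] at e1 e2 ⊢
      refine Prod.ext ?_ ?_
      · show _ = (0 : F); linear_combination -e1
      · show _ = (0 : F); linear_combination -e2
    have h2 := congrArg (binQ a c) h1
    rw [binQ_binMul, hα, show binQ a c ((0, 0) : F × F) = 0 by simp [binQ]] at h2
    have h3 : (β.1 - 1) ^ 2 + a * (β.1 - 1) * β.2 + c * β.2 ^ 2 = 0 := by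
      simp only [binQ] at h2; linear_combination -h2
    obtain ⟨e1, e2⟩ := hac _ _ h3
    exact Prod.ext (by linear_combination e1) e2
  have hα' : binQ a c α' = -1 := by rw [binQ_binMul, hα, hβ, mul_one]
  let d1 : F × F := (α'.1 - α.1, α'.2 - α.2)
  have hd1 : ∀ p : F × F, binMul a c d1 p = 0 → p = 0 := by
    intro p hp
    have h1 := congrArg (binQ a c) hp
    rw [binQ_binMul, show binQ a c (0 : F × F) = 0 by simp [binQ]] at h1
    rcases mul_eq_zero.1 h1 with h2 | h2
    · obtain ⟨e1, e2⟩ := hac _ _ h2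
      exact absurd (Prod.ext (sub_eq_zero.1 e1) (sub_eq_zero.1 e2)).symm hne
    · exact Prod.ext (hac _ _ h2).1 (hac _ _ h2).2
  let δ : F × F := (1 - β.1, -β.2)
  let S := (Fin 0 ⊕ Fin 0) ⊕ Fin 2
  let pr1 : (Fin 2 ⊕ Fin 2 → F) → F × F := fun v => (v (.inl 0), v (.inl 1))
  let pr2 : (Fin 2 ⊕ Fin 2 → F) → F × F := fun v => (v (.inr 0), v (.inr 1))
  let Φ : (Fin 2 ⊕ Fin 2 → F) →ₗ[F] (S ⊕ S → F) :=
    { toFun := fun v => Sum.elim
        (Sum.elim (fun e => (e.elim Fin.elim0 Fin.elim0 : F)) ![(pr1 v).1 + (pr2 v).1, (pr1 v).2 + (pr2 v).2])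
        (Sum.elim (fun e => (e.elim Fin.elim0 Fin.elim0 : F))
          ![(binMul a c α (pr1 v)).1 + (binMul a c α' (pr2 v)).1,
            (binMul a c α (pr1 v)).2 + (binMul a c α' (pr2 v)).2])
      map_add' := fun u v => by
        funext i
        rcases i with ((i | i) | i) | ((i | i) | i)
        · exact i.elim0
        · exact i.elim0
        · fin_cases i <;> simp [pr1, pr2] <;> ring
        · exact i.elim0
        · exact i.elim0
        · fin_cases i <;> simp [pr1, pr2, binMul] <;> ring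
      map_smul' := fun k v => by
        funext i
        rcases i with ((i | i) | i) | ((i | i) | i)
        · exact i.elim0
        · exact i.elim0
        · fin_cases i <;> simp [pr1, pr2] <;> ring
        · exact i.elim0
        · exact i.elim0
        · fin_cases i <;> simp [pr1, pr2, binMul] <;> ring }
  let y : F × F → F × F := fun p =>
    (2 * (binMul a c δ p).1 + a * (binMul a c δ p).2, a * (binMul a c δ p).1 + 2 * c * (binMul a c δ p).2)
  let Ψ : (Fin 2 ⊕ Fin 2 → F) →ₗ[F] (Fin 2 ⊕ Fin 2 → F) :=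
    { toFun := fun v => Sum.elim (fun i => v (.inl i)) ![(y (pr2 v)).1, (y (pr2 v)).2]
      map_add' := fun u v => by
        funext i
        rcases i with i | i
        · simp
        · fin_cases i <;> simp [y, pr2, binMul] <;> ring
      map_smul' := fun k v => by
        funext i
        rcases i with i | i
        · simp
        · fin_cases i <;> simp [y, pr2, binMul] <;> ring }
  have hΦ : Function.Injective Φ := by
    refine (injective_iff_map_eq_zero Φ).2 fun v hv => ?_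
    have e1 := congrFun hv (.inl (.inr 0))
    have e2 := congrFun hv (.inl (.inr 1))
    have e3 := congrFun hv (.inr (.inr 0))
    have e4 := congrFun hv (.inr (.inr 1))
    simp [Φ, pr1, pr2] at e1 e2 e3 e4
    have hu1 : v (.inl 0) = -v (.inr 0) := by linear_combination e1
    have hu2 : v (.inl 1) = -v (.inr 1) := by linear_combination e2
    have hp := hd1 (pr2 v) (by
      refine Prod.ext ?_ ?_ <;> simp only [binMul, d1, pr2, hu1, hu2] at e3 e4 ⊢
      · show _ = (0 : F); linear_combination e3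
      · show _ = (0 : F); linear_combination e4)
    have p1 : v (.inr 0) = 0 := congrArg Prod.fst hp
    have p2 : v (.inr 1) = 0 := congrArg Prod.snd hp
    funext i
    rcases i with i | i <;> fin_cases i <;> simp [hu1, hu2, p1, p2]
  have hΨ : Function.Injective Ψ := by
    refine (injective_iff_map_eq_zero Ψ).2 fun v hv => ?_
    have e1 := congrFun hv (.inl 0)
    have e2 := congrFun hv (.inl 1)
    have e3 := congrFun hv (.inr 0)
    have e4 := congrFun hv (.inr 1)
    simp [Ψ, y] at e1 e2 e3 e4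
    have hD : (4 * c - a ^ 2) ≠ 0 := fun h => hd (by linear_combination -h)
    have h5 : (4 * c - a ^ 2) * (binMul a c δ (pr2 v)).1 = 0 := by linear_combination 2 * c * e3 - a * e4
    have h6 : (4 * c - a ^ 2) * (binMul a c δ (pr2 v)).2 = 0 := by linear_combination 2 * e4 - a * e3
    have h7 : binMul a c δ (pr2 v) = 0 :=
      Prod.ext ((mul_eq_zero.1 h5).resolve_left hD) ((mul_eq_zero.1 h6).resolve_left hD)
    have h8 := congrArg (binQ a c) h7
    rw [binQ_binMul, show binQ a c (0 : F × F) = 0 by simp [binQ]] at h8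
    have h9 : pr2 v = 0 := by
      rcases mul_eq_zero.1 h8 with h | h
      · obtain ⟨f1, f2⟩ := hac _ _ h
        exact absurd (Prod.ext (sub_eq_zero.1 f1).symm (neg_eq_zero.1 f2)) hβ1
      · exact Prod.ext (hac _ _ h).1 (hac _ _ h).2
    have p1 : v (.inr 0) = 0 := congrArg Prod.fst h9
    have p2 : v (.inr 1) = 0 := congrArg Prod.snd h9
    funext i
    rcases i with i | i <;> fin_cases i <;> simp [e1, e2, p1, p2]
  have hrank : Module.finrank F (Fin 2 ⊕ Fin 2 → F) = Module.finrank F (S ⊕ S → F) := by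
    simp [S]
  let eΦ := LinearMap.linearEquivOfInjective Φ hΦ hrank
  let eΨ := LinearMap.linearEquivOfInjective Ψ hΨ rfl
  refine ⟨eΦ.symm.trans eΨ, fun w => ?_⟩
  obtain ⟨v, rfl⟩ := eΦ.surjective w
  rw [LinearEquiv.trans_apply, eΦ.symm_apply_apply]
  show Cfsg.quadFormPlus 2 F (Ψ v) = qSum (Cfsg.quadFormMinus 0 F a c) (Cfsg.quadFormMinus 0 F a c) (Φ v)
  simp [qSum, Cfsg.quadFormPlus, Cfsg.quadFormMinus, Φ, Ψ, pr1, pr2, y, δ, α', binMul, Fin.sum_univ_two]
  simp only [binQ] at hα hβ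
  linear_combination
    -((v (.inl 0)) ^ 2 + a * (v (.inl 0)) * (v (.inl 1)) + c * (v (.inl 1)) ^ 2
      + ((v (.inr 0)) ^ 2 + a * (v (.inr 0)) * (v (.inr 1)) + c * (v (.inr 1)) ^ 2) * (β.1 ^ 2 + a * β.1 * β.2 + c * β.2 ^ 2)
      + 2 * (v (.inl 0)) * (β.1 * (v (.inr 0)) - c * β.2 * (v (.inr 1)))
      + a * (v (.inl 0) * (β.1 * (v (.inr 1)) + β.2 * (v (.inr 0)) + a * β.2 * (v (.inr 1))) + (β.1 * (v (.inr 0)) - c * β.2 * (v (.inr 1))) * v (.inl 1))
      + 2 * c * v (.inl 1) * (β.1 * (v (.inr 1)) + β.2 * (v (.inr 0)) + a * β.2 * (v (.inr 1)))) * hα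
    + ((v (.inr 0)) ^ 2 + a * (v (.inr 0)) * (v (.inr 1)) + c * (v (.inr 1)) ^ 2) * hβ

/-- The line completing an elliptic plane to the standard three-dimensional space. -/
def compLine (a c : F) (v : Unit → F) : F := -(4 * c - a ^ 2) * v () ^ 2

open CfsgLib.ClassicalGroups in
theorem minus_add_line (h2 : (2 : F) ≠ 0) {a c : F}
    (hac : ∀ z₁ z₂ : F, z₁ ^ 2 + a * z₁ * z₂ + c * z₂ ^ 2 = 0 → z₁ = 0 ∧ z₂ = 0) :
    QEquiv (qSum (Cfsg.quadFormMinus 0 F a c) (compLine a c)) (Cfsg.quadFormOdd 1 F) := by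
  have hD : (4 * c - a ^ 2) ≠ 0 := fun h => binDisc_ne_zero hac (by linear_combination -h)
  let S := (Fin 0 ⊕ Fin 0) ⊕ Fin 2
  let Φ : (S ⊕ Unit → F) →ₗ[F] (Unit ⊕ (Fin 1 ⊕ Fin 1) → F) :=
    { toFun := fun v => Sum.elim (fun _ => v (.inl (.inr 0)) + a / 2 * v (.inl (.inr 1)))
        (Sum.elim (fun _ => (4 * c - a ^ 2) * (v (.inl (.inr 1)) / 2 - v (.inr ())))
          (fun _ => v (.inl (.inr 1)) / 2 + v (.inr ())))
      map_add' := fun u v => by funext i; rcases i with i | i | i <;> simp <;> ring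
      map_smul' := fun k v => by funext i; rcases i with i | i | i <;> simp <;> ring }
  have hΦ : Function.Injective Φ := by
    refine (injective_iff_map_eq_zero Φ).2 fun v hv => ?_
    have e0 := congrFun hv (.inl ())
    have e1 := congrFun hv (.inr (.inl 0))
    have e2 := congrFun hv (.inr (.inr 0))
    simp [Φ, hD] at e0 e1 e2
    have hz : v (.inl (.inr 1)) = 0 := by
      field_simp at e1 e2
      have : (2 : F) * v (.inl (.inr 1)) = 0 := by linear_combination e1 + e2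
      exact (mul_eq_zero.1 this).resolve_left h2
    have hw : v (.inr ()) = 0 := by simpa [hz] using e2
    have hx : v (.inl (.inr 0)) = 0 := by simpa [hz] using e0
    funext i
    rcases i with ((i | i) | i) | i
    · exact i.elim0
    · exact i.elim0
    · fin_cases i
      · exact hx
      · exact hz
    · exact hw
  refine ⟨LinearMap.linearEquivOfInjective Φ hΦ (by simp), fun v => ?_⟩
  show Cfsg.quadFormOdd 1 F (Φ v) = _
  simp [qSum, Cfsg.quadFormOdd, Cfsg.quadFormMinus, compLine, Φ]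
  field_simp
  ring

end CfsgLib.PrimeClasses
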