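import Cfsg.Agent.Lib.PrimeClasses.Orbits
import Cfsg.Agent.Lib.PrimeClasses.Count

/-!
Realisation of orbit multiplicities: one-orbit blocks, direct sums, and the general linear case.
-/

set_option autoImplicit false
set_option linter.unusedSectionVars false

namespace CfsgLib.PrimeClasses

open Matrix Finset

variable {K : Type*} [Field K] [Fintype K] {r : ℕ} [hr : Fact r.Prime]

/-- A splitting field for the `r`-th roots of unity, generated by a primitive one. -/
theorem exists_root (hrK : (r : K) ≠ 0) :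
    ∃ ζ : CyclotomicField r K, IsPrimitiveRoot ζ r ∧
      Algebra.adjoin K ({ζ} : Set (CyclotomicField r K)) = ⊤ := by
  have : NeZero (r : K) := ⟨hrK⟩
  have hz := IsCyclotomicExtension.zeta_spec r K (CyclotomicField r K)
  exact ⟨_, hz, IsCyclotomicExtension.adjoin_primitive_root_eq_top hz⟩

variable {L : Type*} [Field L] [Algebra K L] {ζ : L} (hζ : IsPrimitiveRoot ζ r)
variable {ι : Type*} [Fintype ι] [DecidableEq ι]

theorem orbit_size_pos (hrK : (r : K) ≠ 0) : 0 < orderOf (Fintype.card K : ZMod r) := by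
  rw [← coe_qUnit hrK, orderOf_units]
  exact orderOf_pos _

theorem weight_orbitMult_le (hrK : (r : K) ≠ 0) {X : Matrix ι ι K} (hX : X ^ r = 1) :
    orderOf (Fintype.card K : ZMod r) * ∑ ω, orbitMult hζ hrK X ω ≤ Fintype.card ι := by
  have := sum_orbitMult hζ hrK hX
  omega

/-- A non-trivial element in dimension equal to the orbit size has exactly one orbit. -/
theorem exists_eq_single {hrK : (r : K) ≠ 0} [DecidableEq (Orbits hrK)] {X : Matrix ι ι K}
    (hX : X ^ r = 1) (hX1 : X ≠ 1) (hc : Fintype.card ι = orderOf (Fintype.card K : ZMod r)) :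
    ∃ ω, orbitMult hζ hrK X = Pi.single ω 1 := by
  have hle := weight_orbitMult_le hζ hrK hX
  rw [hc] at hle
  have hS : ∑ ω, orbitMult hζ hrK X ω ≤ 1 :=
    Nat.le_of_mul_le_mul_left (by rwa [mul_one]) (orbit_size_pos hrK)
  obtain ⟨ω, hω⟩ : ∃ ω, orbitMult hζ hrK X ω ≠ 0 := by
    by_contra h
    push Not at h
    exact hX1 (eq_one_of_orbitMult hζ hrK hX (funext h))
  refine ⟨ω, funext fun η => ?_⟩
  have h1 := Finset.single_le_sum (f := orbitMult hζ hrK X) (fun _ _ => Nat.zero_le _) (Finset.mem_univ ω)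
  by_cases h : η = ω
  · rw [h, Pi.single_eq_same]; omega
  · rw [Pi.single_eq_of_ne h]
    have h2 : orbitMult hζ hrK X ω + orbitMult hζ hrK X η ≤ ∑ ω, orbitMult hζ hrK X ω := by
      rw [← Finset.sum_pair (Ne.symm h)]
      exact Finset.sum_le_sum_of_subset (Finset.subset_univ _)
    omega

/-- Powers of a one-orbit element realise every orbit. -/
theorem exists_pow_eq_single {hrK : (r : K) ≠ 0} [DecidableEq (Orbits hrK)] {X : Matrix ι ι K}
    (hX : X ^ r = 1) (hX1 : X ≠ 1) (hc : Fintype.card ι = orderOf (Fintype.card K : ZMod r))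
    (ω : Orbits hrK) : ∃ s : ℕ, orbitMult hζ hrK (X ^ s) = Pi.single ω 1 := by
  obtain ⟨ω₀, h₀⟩ := exists_eq_single hζ hX hX1 hc
  obtain ⟨s, hs⟩ := QuotientGroup.mk_surjective (ω * ω₀⁻¹)
  have h1 := orbitMult_pow hζ hrK hX s ω₀
  rw [hs, inv_mul_cancel_right, h₀, Pi.single_eq_same] at h1
  refine ⟨(s : ZMod r).val, ?_⟩
  have hXs : (X ^ (s : ZMod r).val) ^ r = 1 := by rw [← pow_mul, mul_comm, pow_mul, hX, one_pow]
  have hne : X ^ (s : ZMod r).val ≠ 1 := fun h => by
    rw [h, orbitMult_one] at h1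
    exact zero_ne_one h1
  obtain ⟨ω₁, h₁⟩ := exists_eq_single hζ hXs hne hc
  rw [h₁] at h1
  by_cases h : ω = ω₁
  · rw [h₁, h]
  · rw [Pi.single_eq_of_ne h] at h1
    exact absurd h1 zero_ne_one

/-- Realisability of all tuples from the empty one, single orbits and sums. -/
theorem realise_induction {α : Type*} [Fintype α] [DecidableEq α] (R : ℕ → (α → ℕ) → Prop) (w : ℕ)
    (hzero : ∀ n, R n 0) (hsingle : ∀ a, R w (Pi.single a 1))
    (hadd : ∀ n m c d, R n c → R m d → R (n + m) (c + d)) (c : α → ℕ) (n : ℕ)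
    (h : w * ∑ a, c a ≤ n) : R n c := by
  induction hN : ∑ a, c a generalizing c n with
  | zero =>
    have : c = 0 := funext fun a => (Finset.sum_eq_zero_iff.1 hN) a (Finset.mem_univ a)
    exact this ▸ hzero n
  | succ N ih =>
    obtain ⟨a, ha⟩ : ∃ a, c a ≠ 0 := by
      by_contra hc
      push Not at hc
      simp [hc] at hN
    let d : α → ℕ := Function.update c a (c a - 1)
    have hd : c = Pi.single a 1 + d := funext fun b => by
      by_cases hb : b = a
      · subst hb; simp [d]; omega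
      · simp [d, hb]
    have hdN : ∑ b, d b = N := by
      have : ∑ b, c b = 1 + ∑ b, d b := by
        conv_lhs => rw [hd]
        simp [Finset.sum_add_distrib]
      omega
    have hw : w ≤ n := le_trans (Nat.le_mul_of_pos_right w (by omega)) (hN ▸ h)
    have := hadd w (n - w) _ d (hsingle a) (ih d (n - w) (by
      rw [hN, Nat.mul_succ] at h
      rw [hdN]
      omega) hdN)
    rwa [← hd, Nat.add_sub_cancel' hw] at this

/-- Every tuple of weight at most `n` is realised in dimension `n`. -/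
theorem exists_GL_realise (hrK : (r : K) ≠ 0) (c : Orbits hrK → ℕ) (n : ℕ)
    (hc : orderOf (Fintype.card K : ZMod r) * ∑ ω, c ω ≤ n) :
    ∃ X : Matrix (Fin n) (Fin n) K, X ^ r = 1 ∧ orbitMult hζ hrK X = c := by
  classical
  refine realise_induction (R := fun n c => ∃ X : Matrix (Fin n) (Fin n) K, X ^ r = 1 ∧
    orbitMult hζ hrK X = c) _ (fun n => ⟨1, one_pow r, orbitMult_one hζ hrK⟩) ?_ ?_ c n hc
  · intro ω
    have hdvd : r ∣ Nat.card (GL (Fin (orderOf (Fintype.card K : ZMod r))) K) := by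
      rw [Matrix.card_GL_field]
      refine dvd_trans ?_ (Finset.dvd_prod_of_mem _
        (Finset.mem_univ (⟨0, orbit_size_pos hrK⟩ : Fin (orderOf (Fintype.card K : ZMod r)))))
      rw [pow_zero, ← CharP.cast_eq_zero_iff (ZMod r) r, Nat.cast_sub (Nat.one_le_pow _ _ Fintype.card_pos),
        Nat.cast_pow, pow_orderOf_eq_one, Nat.cast_one, sub_self]
    obtain ⟨g, hg⟩ := exists_prime_orderOf_dvd_card' r hdvd
    have hgr : g ^ r = 1 := orderOf_dvd_iff_pow_eq_one.1 (dvd_of_eq hg)
    have hX : (g : Matrix (Fin (orderOf (Fintype.card K : ZMod r)))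
        (Fin (orderOf (Fintype.card K : ZMod r))) K) ^ r = 1 := by
      rw [← Units.val_pow_eq_pow_val, hgr, Units.val_one]
    have hX1 : g ≠ 1 := fun h => hr.out.one_lt.ne (by rw [← hg, h, orderOf_one])
    obtain ⟨s, hs⟩ := exists_pow_eq_single hζ hX (fun h => hX1 (Units.ext h)) (Fintype.card_fin _) ω
    exact ⟨_, by rw [← pow_mul, mul_comm, pow_mul, hX, one_pow], hs⟩
  · rintro n m _ _ ⟨X, hX, rfl⟩ ⟨Y, hY, rfl⟩
    refine ⟨Matrix.reindex finSumFinEquiv finSumFinEquiv (Matrix.fromBlocks X 0 0 Y), ?_, ?_⟩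
    · rw [show Matrix.reindex finSumFinEquiv finSumFinEquiv (Matrix.fromBlocks X 0 0 Y) =
        Matrix.reindexAlgEquiv K K finSumFinEquiv (Matrix.fromBlocks X 0 0 Y) from rfl, ← map_pow]
      have hp : ∀ k : ℕ, (Matrix.fromBlocks X 0 0 Y) ^ k = Matrix.fromBlocks (X ^ k) 0 0 (Y ^ k) :=
        fun k => by
          induction k with
          | zero => simp [Matrix.fromBlocks_one]
          | succ k ih => rw [pow_succ, pow_succ, pow_succ, ih, Matrix.fromBlocks_multiply]; simp
      rw [hp, hX, hY, Matrix.fromBlocks_one, map_one]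
    · rw [orbitMult_reindex, orbitMult_fromBlocks]

end CfsgLib.PrimeClasses
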