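import Cfsg.Agent.Lib.PrimeClasses.Realise

/-!
Tuples of multiplicities invariant under an involutive translation of the orbit group, and the
induction principle to realise them.
-/

set_option autoImplicit false
set_option linter.unusedSectionVars false

namespace CfsgLib.PrimeClasses

variable {Γ : Type*} [CommGroup Γ] [Fintype Γ] (e : Γ)

/-- `c` is invariant under translation by `e`. -/
def IsSym (c : Γ → ℕ) : Prop := ∀ ω, c (e * ω) = c ω

theorem isSym_comp_mk (d : Γ ⧸ Subgroup.zpowers e → ℕ) :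
    IsSym e (fun ω => d (QuotientGroup.mk ω)) := fun ω => by
  show d (QuotientGroup.mk (e * ω)) = _
  rw [QuotientGroup.mk_mul, (QuotientGroup.eq_one_iff e).2 (Subgroup.mem_zpowers e), one_mul]

variable {e}

theorem IsSym.out_eq {c : Γ → ℕ} (h : IsSym e c) (ω : Γ) :
    c (QuotientGroup.mk ω : Γ ⧸ Subgroup.zpowers e).out = c ω := by
  obtain ⟨⟨g, hg⟩, hg'⟩ := QuotientGroup.mk_out_eq_mul (Subgroup.zpowers e) ω
  rw [hg', mul_comm]
  obtain ⟨n, rfl⟩ := mem_powers_iff_mem_zpowers.2 hg
  show c (e ^ n * ω) = c ω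
  clear hg hg'
  induction n with
  | zero => simp
  | succ n ih => rw [pow_succ', mul_assoc, h, ih]

theorem card_zpowers_two (he : e * e = 1) (he1 : e ≠ 1) :
    Nat.card (Subgroup.zpowers e) = 2 := by
  rw [Nat.card_zpowers]
  exact orderOf_eq_prime (by rw [pow_two, he]) he1

variable [DecidableEq Γ]

theorem sum_eq_two_mul (he : e * e = 1) (he1 : e ≠ 1) [Fintype (Γ ⧸ Subgroup.zpowers e)]
    (d : Γ ⧸ Subgroup.zpowers e → ℕ) :
    ∑ ω, d (QuotientGroup.mk ω) = 2 * ∑ a, d a := by
  classical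
  rw [← Finset.sum_fiberwise Finset.univ (fun ω : Γ => (QuotientGroup.mk ω : Γ ⧸ Subgroup.zpowers e)),
    Finset.mul_sum]
  refine Finset.sum_congr rfl fun a _ => ?_
  rw [Finset.sum_congr rfl (fun ω hω => by rw [(Finset.mem_filter.1 hω).2]), Finset.sum_const,
    smul_eq_mul]
  congr 1
  obtain ⟨g, rfl⟩ := QuotientGroup.mk_surjective a
  rw [← card_zpowers_two he he1, ← Fintype.card_subtype, ← Nat.card_eq_fintype_card]
  refine Nat.card_congr
    { toFun := fun v => ⟨g⁻¹ * v.1, QuotientGroup.eq.1 v.2.symm⟩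
      invFun := fun h => ⟨g * h, by
        rw [QuotientGroup.eq, mul_inv_rev, mul_assoc, inv_mul_cancel, mul_one]
        exact inv_mem h.2⟩
      left_inv := fun v => Subtype.ext (mul_inv_cancel_left _ _)
      right_inv := fun h => Subtype.ext (inv_mul_cancel_left _ _) }

/-- Symmetric tuples are tuples on the quotient. -/
noncomputable def symEquiv : {c : Γ → ℕ // IsSym e c} ≃ (Γ ⧸ Subgroup.zpowers e → ℕ) where
  toFun c a := c.1 a.out
  invFun d := ⟨fun ω => d (QuotientGroup.mk ω), isSym_comp_mk e d⟩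
  left_inv c := Subtype.ext (funext fun ω => c.2.out_eq ω)
  right_inv d := funext fun a => congrArg d (QuotientGroup.out_eq' a)

theorem sum_sym (he : e * e = 1) (he1 : e ≠ 1) [Fintype (Γ ⧸ Subgroup.zpowers e)] {c : Γ → ℕ}
    (hc : IsSym e c) : ∑ ω, c ω = 2 * ∑ a : Γ ⧸ Subgroup.zpowers e, c a.out := by
  rw [← sum_eq_two_mul he he1 (fun a : Γ ⧸ Subgroup.zpowers e => c a.out)]
  exact Finset.sum_congr rfl fun ω _ => (hc.out_eq ω).symm

theorem card_quot (he : e * e = 1) (he1 : e ≠ 1) :
    Nat.card (Γ ⧸ Subgroup.zpowers e) = Fintype.card Γ / 2 := by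
  rw [← Nat.card_eq_fintype_card, Subgroup.card_eq_card_quotient_mul_card_subgroup (Subgroup.zpowers e),
    card_zpowers_two he he1, Nat.mul_div_cancel _ two_pos]

/-- Non-zero symmetric tuples of bounded weight. -/
theorem card_sym_weight_le (he : e * e = 1) (he1 : e ≠ 1) {w : ℕ} (hw : 0 < w) (n : ℕ) :
    Nat.card {c : Γ → ℕ // c ≠ 0 ∧ IsSym e c ∧ w * ∑ ω, c ω ≤ n} =
      Nat.choose (n / (2 * w) + Fintype.card Γ / 2) (Fintype.card Γ / 2) - 1 := by
  classical
  have := Fintype.ofFinite (Γ ⧸ Subgroup.zpowers e)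
  rw [← card_quot he he1, Nat.card_eq_fintype_card (α := Γ ⧸ Subgroup.zpowers e),
    ← card_ne_zero_weight_le _ (by omega) n]
  refine Nat.card_congr
    { toFun := fun c => ⟨fun a => c.1 a.out, fun h => c.2.1 (funext fun ω => by
          rw [← c.2.2.1.out_eq ω]; exact congrFun h _), by
        have h := c.2.2.2
        rw [sum_sym he he1 c.2.2.1] at h
        linarith⟩
      invFun := fun d => ⟨fun ω => d.1 (QuotientGroup.mk ω), fun h => d.2.1 (funext fun a => by
          rw [← QuotientGroup.out_eq' a]; exact congrFun h a.out), isSym_comp_mk e _, by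
        rw [sum_eq_two_mul he he1]
        have h := d.2.2
        linarith⟩
      left_inv := fun c => Subtype.ext (funext fun ω => c.2.2.1.out_eq ω)
      right_inv := fun d => Subtype.ext (funext fun a => congrArg d.1 (QuotientGroup.out_eq' a)) }

/-- Non-zero symmetric tuples filling the weight. -/
theorem card_sym_sum_eq (he : e * e = 1) (he1 : e ≠ 1) (N : ℕ) :
    Nat.card {c : Γ → ℕ // IsSym e c ∧ ∑ ω, c ω = 2 * N} =
      Nat.choose (N + Fintype.card Γ / 2 - 1) (Fintype.card Γ / 2 - 1) := by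
  classical
  have := Fintype.ofFinite (Γ ⧸ Subgroup.zpowers e)
  rw [← card_quot he he1, Nat.card_eq_fintype_card (α := Γ ⧸ Subgroup.zpowers e),
    ← card_sum_eq _ N Fintype.card_pos]
  refine Nat.card_congr
    { toFun := fun c => ⟨fun a => c.1 a.out, by
        have h := c.2.2
        rw [sum_sym he he1 c.2.1] at h
        show ∑ a : Γ ⧸ Subgroup.zpowers e, c.1 a.out = N
        omega⟩
      invFun := fun d => ⟨fun ω => d.1 (QuotientGroup.mk ω), isSym_comp_mk e _, by
        rw [sum_eq_two_mul he he1, d.2]⟩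
      left_inv := fun c => Subtype.ext (funext fun ω => c.2.1.out_eq ω)
      right_inv := fun d => Subtype.ext (funext fun a => congrArg d.1 (QuotientGroup.out_eq' a)) }

/-- A quotient orbit lifts to a pair of orbits. -/
theorem single_comp_mk (he : e * e = 1) (he1 : e ≠ 1) [DecidableEq (Γ ⧸ Subgroup.zpowers e)]
    (a : Γ ⧸ Subgroup.zpowers e) :
    (fun ω => (Pi.single a 1 : Γ ⧸ Subgroup.zpowers e → ℕ) (QuotientGroup.mk ω)) =
      Pi.single a.out 1 + Pi.single (e * a.out) 1 := by
  funext ω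
  have hne : a.out ≠ e * a.out := fun h' => he1 (mul_eq_right.1 h'.symm)
  by_cases hω : (QuotientGroup.mk ω : Γ ⧸ Subgroup.zpowers e) = a
  · rw [hω, Pi.single_eq_same, Pi.add_apply]
    obtain ⟨⟨g, hg⟩, hg'⟩ := QuotientGroup.mk_out_eq_mul (Subgroup.zpowers e) ω
    rw [hω] at hg'
    obtain ⟨k, rfl⟩ := mem_powers_iff_mem_zpowers.2 hg
    rcases Nat.even_or_odd k with ⟨j, rfl⟩ | ⟨j, rfl⟩
    · have : a.out = ω := by
        rw [hg']
        show ω * e ^ (j + j) = ω
        rw [← two_mul, pow_mul, pow_two, he, one_pow, mul_one]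
      rw [← this, Pi.single_eq_same, Pi.single_eq_of_ne hne, add_zero]
    · have : e * a.out = ω := by
        rw [hg']
        show e * (ω * e ^ (2 * j + 1)) = ω
        rw [pow_succ, pow_mul, pow_two, he, one_pow, one_mul, mul_left_comm, he, mul_one]
      rw [← this, Pi.single_eq_same, Pi.single_eq_of_ne hne.symm, zero_add]
  · have h1 : ω ≠ a.out := fun h' => hω (by rw [h', QuotientGroup.out_eq'])
    have h2 : ω ≠ e * a.out := fun h' => hω (by
      rw [h', QuotientGroup.mk_mul, (QuotientGroup.eq_one_iff e).2 (Subgroup.mem_zpowers e),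
        one_mul, QuotientGroup.out_eq'])
    rw [Pi.single_eq_of_ne hω, Pi.add_apply, Pi.single_eq_of_ne h1, Pi.single_eq_of_ne h2, add_zero]

/-- Realisability of all symmetric tuples from orbit pairs and sums. -/
theorem realise_sym_induction (R : ℕ → (Γ → ℕ) → Prop) (w : ℕ) (he : e * e = 1) (he1 : e ≠ 1)
    (hzero : ∀ n, R n 0) (hpair : ∀ ω, R (2 * w) (Pi.single ω 1 + Pi.single (e * ω) 1))
    (hadd : ∀ n m c d, R n c → R m d → R (n + m) (c + d)) (c : Γ → ℕ) (hc : IsSym e c) (n : ℕ)
    (h : w * ∑ ω, c ω ≤ n) : R n c := by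
  classical
  have := Fintype.ofFinite (Γ ⧸ Subgroup.zpowers e)
  have h1 := realise_induction
    (R := fun n (d : Γ ⧸ Subgroup.zpowers e → ℕ) => R n (fun ω => d (QuotientGroup.mk ω))) (2 * w)
    hzero (fun a => ?_) (fun n m d d' hd hd' => hadd n m _ _ hd hd') (fun a => c a.out) n
    (by rw [sum_sym he he1 hc] at h; linarith)
  · have : (fun ω => c (QuotientGroup.mk ω : Γ ⧸ Subgroup.zpowers e).out) = c :=
      funext fun ω => hc.out_eq ω
    exact this ▸ h1
  · show R _ (fun ω => (Pi.single a 1 : Γ ⧸ Subgroup.zpowers e → ℕ) (QuotientGroup.mk ω))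
    rw [single_comp_mk he he1]
    exact hpair a.out

end CfsgLib.PrimeClasses
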