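import Cfsg.Agent.Lib.PrimeClasses.Duality
import Cfsg.Agent.Lib.IsomConj.Classical
import Cfsg.Agent.Lib.Sp.Card

/-!
Multiplicities of elements of prime order of symplectic groups: symmetry and realisation.
-/

set_option autoImplicit false
set_option linter.unusedSectionVars false

namespace CfsgLib.PrimeClasses

open Matrix

variable {K : Type*} [Field K] [Fintype K] {r : ℕ} [hr : Fact r.Prime]
variable {L : Type*} [Field L] [Algebra K L] {ζ : L} (hζ : IsPrimitiveRoot ζ r)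

/-- The tuples realised by elements of `Sp_{2m}`. -/
def SpRealised (hrK : (r : K) ≠ 0) (m : ℕ) (c : Orbits hrK → ℕ) : Prop :=
  ∃ X : Matrix (Fin m ⊕ Fin m) (Fin m ⊕ Fin m) K, X ^ r = 1 ∧
    X ∈ Matrix.symplecticGroup (Fin m) K ∧ orbitMult hζ hrK X = c

theorem Sp_realised_zero (hrK : (r : K) ≠ 0) (m : ℕ) : SpRealised hζ hrK m 0 :=
  ⟨1, one_pow r, one_mem _, orbitMult_one hζ hrK⟩

theorem Sp_isSym (hrK : (r : K) ≠ 0) {m : ℕ} {X : Matrix (Fin m ⊕ Fin m) (Fin m ⊕ Fin m) K}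
    (hX : X ^ r = 1) (hu : X ∈ Matrix.symplecticGroup (Fin m) K) :
    IsSym (orb hrK (-1)) (orbitMult hζ hrK X) :=
  isSym_of_isometry hζ hrK hX (Matrix.isUnit_det_J (Fin m) K) (SymplecticGroup.mem_iff'.1 hu)

/-- Regrouping the coordinates of two symplectic spaces. -/
def spEquiv (a b : ℕ) : (Fin a ⊕ Fin a) ⊕ (Fin b ⊕ Fin b) ≃ Fin (a + b) ⊕ Fin (a + b) :=
  (Equiv.sumSumSumComm _ _ _ _).trans (Equiv.sumCongr finSumFinEquiv finSumFinEquiv)

theorem reindex_J (a b : ℕ) :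
    Matrix.reindex (spEquiv a b) (spEquiv a b)
      (Matrix.fromBlocks (Matrix.J (Fin a) K) 0 0 (Matrix.J (Fin b) K)) = Matrix.J (Fin (a + b)) K := by
  ext x y
  obtain ⟨x, rfl⟩ := (spEquiv a b).surjective x
  obtain ⟨y, rfl⟩ := (spEquiv a b).surjective y
  rw [Matrix.reindex_apply, Matrix.submatrix_apply, Equiv.symm_apply_apply, Equiv.symm_apply_apply]
  rcases x with (x | x) | (x | x) <;> rcases y with (y | y) | (y | y) <;>
    simp [spEquiv, Matrix.J, Matrix.fromBlocks, Matrix.one_apply, Fin.ext_iff] <;> omega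

theorem Sp_realised_add (hrK : (r : K) ≠ 0) {a b : ℕ} {c d : Orbits hrK → ℕ}
    (h : SpRealised hζ hrK a c) (h' : SpRealised hζ hrK b d) : SpRealised hζ hrK (a + b) (c + d) := by
  obtain ⟨X, hX, hXu, rfl⟩ := h
  obtain ⟨Y, hY, hYu, rfl⟩ := h'
  let e := spEquiv a b
  have hmul : ∀ U V : Matrix ((Fin a ⊕ Fin a) ⊕ (Fin b ⊕ Fin b)) ((Fin a ⊕ Fin a) ⊕ (Fin b ⊕ Fin b)) K,
      Matrix.reindex e e U * Matrix.reindex e e V = Matrix.reindex e e (U * V) := fun U V =>
    (map_mul (Matrix.reindexAlgEquiv K K e) U V).symm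
  refine ⟨Matrix.reindex e e (Matrix.fromBlocks X 0 0 Y), ?_, ?_, ?_⟩
  · rw [reindex_pow, fromBlocks_pow, hX, hY, Matrix.fromBlocks_one]
    exact map_one (Matrix.reindexAlgEquiv K K e)
  · rw [SymplecticGroup.mem_iff', Matrix.transpose_reindex, ← reindex_J a b, hmul, hmul,
      Matrix.fromBlocks_transpose, Matrix.fromBlocks_multiply, Matrix.fromBlocks_multiply]
    simp [e, SymplecticGroup.mem_iff'.1 hXu, SymplecticGroup.mem_iff'.1 hYu]
  · rw [orbitMult_reindex, orbitMult_fromBlocks]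

/-- A pair of dual orbits. -/
theorem Sp_realised_pair (hrK : (r : K) ≠ 0) [DecidableEq (Orbits hrK)] (ω : Orbits hrK) :
    SpRealised hζ hrK (orderOf (Fintype.card K : ZMod r))
      (Pi.single ω 1 + Pi.single (orb hrK (-1) * ω) 1) := by
  set i := orderOf (Fintype.card K : ZMod r)
  obtain ⟨X, hX, hXc⟩ := exists_GL_realise hζ hrK (Pi.single ω 1) i (by
    rw [Finset.sum_pi_single', if_pos (Finset.mem_univ ω), mul_one])
  let Xi : Matrix (Fin i) (Fin i) K := X ^ (r - 1)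
  have hXi : Xi * X = 1 := by
    show X ^ (r - 1) * X = 1
    rw [← pow_succ, Nat.sub_add_cancel hr.out.pos, hX]
  refine ⟨Matrix.fromBlocks X 0 0 Xiᵀ, ?_, ?_, ?_⟩
  · rw [fromBlocks_pow, hX, ← transpose_pow, ← pow_mul, mul_comm, pow_mul, hX, one_pow, transpose_one,
      Matrix.fromBlocks_one]
  · rw [SymplecticGroup.mem_iff', Matrix.J, Matrix.fromBlocks_transpose, Matrix.fromBlocks_multiply,
      Matrix.fromBlocks_multiply]
    simp [← Matrix.transpose_mul, hXi]
  · rw [orbitMult_fromBlocks, hXc]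
    congr 1
    funext η
    have h1 := orbitMult_inv_transpose hζ hrK hX hXi (orb hrK (-1) * η)
    rw [← mul_assoc, orb_neg_one_sq, one_mul, hXc] at h1
    rw [h1]
    by_cases h : η = orb hrK (-1) * ω
    · rw [h, ← mul_assoc, orb_neg_one_sq, one_mul, Pi.single_eq_same, Pi.single_eq_same]
    · rw [Pi.single_eq_of_ne h, Pi.single_eq_of_ne]
      exact fun h' => h (by rw [← h', ← mul_assoc, orb_neg_one_sq, one_mul])

/-- A self-dual orbit. -/
theorem Sp_realised_single (hrK : (r : K) ≠ 0) [DecidableEq (Orbits hrK)] {m : ℕ}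
    (hm : orderOf (Fintype.card K : ZMod r) = 2 * m) (ω : Orbits hrK) :
    SpRealised hζ hrK m (Pi.single ω 1) := by
  have hmpos : 0 < m := by have := orbit_size_pos hrK; omega
  have hdiv : r ∣ Nat.card (Matrix.symplecticGroup (Fin m) K) := by
    rw [CfsgLib.Sp.card_symplecticGroup rfl]
    refine Dvd.dvd.mul_left (dvd_trans ?_ (Finset.dvd_prod_of_mem _ (Finset.mem_range.2
      (show m - 1 < m by omega)))) _
    rw [Nat.sub_add_cancel hmpos, ← hm, ← CharP.cast_eq_zero_iff (ZMod r) r,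
      Nat.cast_sub (Nat.one_le_pow _ _ Fintype.card_pos), Nat.cast_pow, pow_orderOf_eq_one,
      Nat.cast_one, sub_self]
  obtain ⟨g, hg⟩ := exists_prime_orderOf_dvd_card' r hdiv
  have hX : g.1 ^ r = 1 := by
    rw [← SubmonoidClass.coe_pow, orderOf_dvd_iff_pow_eq_one.1 (dvd_of_eq hg), Submonoid.coe_one]
  have hX1 : g.1 ≠ 1 := fun h => by
    have : g = 1 := Subtype.ext h
    rw [this, orderOf_one] at hg
    exact hr.out.one_lt.ne hg
  obtain ⟨s, hs⟩ := exists_pow_eq_single hζ hX hX1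
    (by rw [Fintype.card_sum, Fintype.card_fin, hm, two_mul]) ω
  exact ⟨g.1 ^ s, by rw [← pow_mul, mul_comm, pow_mul, hX, one_pow], pow_mem g.2 s, hs⟩

end CfsgLib.PrimeClasses
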